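import Cfsg.Prelude.Def_Involutions
import Cfsg.Agent.Lib.Involutions.Basic
import Cfsg.Agent.Lib.BinaryPSL2.Abstract
import Cfsg.Agent.Lib.SzBinary56.Basic

/-!
# Binary coset actions of a group with one class of involutions

Commuting involutions have the same fixed cosets; the setwise stabiliser of such a fixed point set
is strongly embedded.
-/

set_option autoImplicit false
set_option linter.unusedSectionVars false
set_option linter.style.haveILetI false

namespace Cfsg.Agent.Lib.Binary95

open MulAction Cfsg.Agent.Lib.Involutions.Basic Cfsg.Agent.Lib.SzBinary56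
open scoped Pointwise

variable {G : Type*} [Group G] [Finite G] {H : Subgroup G}

/-- The fixed cosets. -/
def Fix (H : Subgroup G) (g : G) : Set (G ⧸ H) := {w | g • w = w}

theorem mem_Fix {g : G} {w : G ⧸ H} : w ∈ Fix H g ↔ g • w = w := Iff.rfl

theorem smul_Fix (c g : G) : c • Fix H g = Fix H (c * g * c⁻¹) := by
  ext w
  rw [Set.mem_smul_set_iff_inv_smul_mem, mem_Fix, mem_Fix, mul_smul, mul_smul, smul_eq_iff_eq_inv_smul c]

/-- Any two involutions fix equally many cosets. -/
theorem eq_of_subset_Fix (hone : ∀ s t : G, orderOf s = 2 → orderOf t = 2 → IsConj s t) {s t : G}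
    (hs : orderOf s = 2) (ht : orderOf t = 2) (h : Fix H s ⊆ Fix H t) : Fix H s = Fix H t := by
  obtain ⟨c, hc⟩ := isConj_iff.1 (hone s t hs ht)
  refine Set.eq_of_subset_of_ncard_le h ?_ (Set.toFinite _)
  rw [← hc, ← smul_Fix, ← Set.image_smul, Set.ncard_image_of_injective _ (MulAction.injective c)]

/-- Commuting involutions fix the same cosets. -/
theorem Fix_eq_of_commute (hB : Bin H)
    (hone : ∀ s t : G, orderOf s = 2 → orderOf t = 2 → IsConj s t) {g h : G} (hg : orderOf g = 2)
    (hh : orderOf h = 2) (hc : g * h = h * g) : Fix H g = Fix H h := by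
  classical
  by_cases hgh : g = h
  · rw [hgh]
  have hgg := invol_mul_self hg
  have hhh := invol_mul_self hh
  set k := g * h with hk
  have hkk : k * k = 1 := by
    calc g * h * (g * h) = g * h * (h * g) := by rw [← hc]
      _ = g * (h * h) * g := by group
      _ = 1 := by rw [hhh, mul_one, hgg]
  have hko : orderOf k = 2 := invol_iff.2 ⟨hkk, fun e => hgh (by
    calc g = g * (h * h) := by rw [hhh, mul_one]
      _ = k * h := by rw [hk]; group
      _ = h := by rw [e, one_mul])⟩
  have hgk : h = g * k := by rw [hk, ← mul_assoc, hgg, one_mul]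
  by_cases hfix : ∀ w ∈ Fix H k, g • w = w
  · have h1 : Fix H k = Fix H g := eq_of_subset_Fix hone hko hg hfix
    have h2 : Fix H k = Fix H h := eq_of_subset_Fix hone hko hh fun w hw => by
      rw [mem_Fix, hgk, mul_smul, mem_Fix.1 hw, hfix w hw]
    rw [← h1, h2]
  push Not at hfix
  obtain ⟨w₀, hw₀, hw₀g⟩ := hfix
  let P := {w : G ⧸ H // g • w = w ∨ h • w = w}
  let K := {w : G ⧸ H // k • w = w}
  letI : Fintype P := Fintype.ofFinite P
  letI : Fintype K := Fintype.ofFinite K
  have hgK : ∀ w : K, k • (g • w.1) = g • w.1 := fun w => by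
    rw [← mul_smul, show k * g = g * k by rw [hk, mul_assoc, ← hc], mul_smul, w.2]
  let I : Option (P ⊕ K) → G ⧸ H := fun o => o.elim w₀ (Sum.elim Subtype.val Subtype.val)
  let J : Option (P ⊕ K) → G ⧸ H :=
    fun o => o.elim (g • w₀) (Sum.elim Subtype.val fun w => g • w.1)
  have hcard : 2 ≤ Fintype.card (Option (P ⊕ K)) := by
    have : 0 < Fintype.card K := Fintype.card_pos_iff.2 ⟨⟨w₀, hw₀⟩⟩
    rw [Fintype.card_option, Fintype.card_sum]
    omega
  have hPK : ∀ (p : P) (w : G ⧸ H), k • w = w → ∃ x : G, x • p.1 = p.1 ∧ x • w = g • w := by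
    intro p w hw
    rcases p.2 with e | e
    · exact ⟨g, e, rfl⟩
    · exact ⟨h, e, by rw [hgk, mul_smul, hw]⟩
  have hp : ∀ o o' : Option (P ⊕ K), ∃ x : G, x • I o = J o ∧ x • I o' = J o' := by
    rintro (_ | p | w) (_ | p' | w') <;> dsimp [I, J]
    · exact ⟨g, rfl, rfl⟩
    · obtain ⟨x, x1, x2⟩ := hPK p' w₀ hw₀; exact ⟨x, x2, x1⟩
    · exact ⟨g, rfl, rfl⟩
    · exact hPK p w₀ hw₀
    · exact ⟨1, one_smul _ _, one_smul _ _⟩
    · exact hPK p w'.1 w'.2
    · exact ⟨g, rfl, rfl⟩
    · obtain ⟨x, x1, x2⟩ := hPK p' w.1 w.2; exact ⟨x, x2, x1⟩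
    · exact ⟨g, rfl, rfl⟩
  obtain ⟨x, hx⟩ := BinaryPSL2.IsBinary.fintype (H := H) hB hcard I J fun o o' _ => hp o o'
  have hx0 : x • w₀ = g • w₀ := hx none
  have hx1 : x • (g • w₀) = w₀ := by
    have := hx (some (Sum.inr ⟨g • w₀, hgK ⟨w₀, hw₀⟩⟩))
    change x • (g • w₀) = g • (g • w₀) at this
    rwa [← mul_smul, ← mul_smul, hgg, one_smul, mul_smul] at this
  have hev : Even (orderOf x) := by
    rw [← Nat.not_odd_iff_even]
    rintro ⟨m, hm⟩
    have h2 : x ^ 2 ∈ stabilizer G w₀ := by
      rw [MulAction.mem_stabilizer_iff, pow_two, mul_smul, hx0, hx1]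
    have h3 : x ∈ stabilizer G w₀ := by
      have h4 := Subgroup.pow_mem _ h2 (m + 1)
      rwa [← pow_mul, show 2 * (m + 1) = orderOf x + 1 by omega, pow_succ, pow_orderOf_eq_one,
        one_mul] at h4
    exact hw₀g (hx0.symm.trans h3)
  set i := x ^ (orderOf x / 2)
  have hio : orderOf i = 2 := orderOf_pow_half hev
  have hP : ∀ p : P, i • p.1 = p.1 := fun p => by
    have : x ∈ stabilizer G p.1 := hx (some (Sum.inl p))
    exact Subgroup.pow_mem _ this _
  have e1 : Fix H g = Fix H i := eq_of_subset_Fix hone hg hio fun w hw => hP ⟨w, Or.inl hw⟩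
  have e2 : Fix H h = Fix H i := eq_of_subset_Fix hone hh hio fun w hw => hP ⟨w, Or.inr hw⟩
  rw [e1, e2]

/-- An involution commuting with an involution of `H` lies in `H`. -/
theorem mem_of_commute (hB : Bin H)
    (hone : ∀ s t : G, orderOf s = 2 → orderOf t = 2 → IsConj s t) {t s : G} (ht : t ∈ H)
    (hto : orderOf t = 2) (hso : orderOf s = 2) (hc : t * s = s * t) : s ∈ H := by
  have h1 : ((1 : G) : G ⧸ H) ∈ Fix H t := by
    rw [mem_Fix, smul_mk_eq_iff, inv_one, one_mul, mul_one]; exact ht
  rw [Fix_eq_of_commute hB hone hto hso hc, mem_Fix, smul_mk_eq_iff, inv_one, one_mul, mul_one] at h1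
  exact h1

/-- A simple group with one class of involutions and a binary action on the cosets of a proper
subgroup of even order has a strongly embedded subgroup. -/
theorem exists_stronglyEmbedded [IsSimpleGroup G] (hB : Bin H)
    (hone : ∀ s t : G, orderOf s = 2 → orderOf t = 2 → IsConj s t) (hH : H ≠ ⊤)
    (heven : Even (Nat.card H)) : ∃ M : Subgroup G, Cfsg.IsStronglyEmbedded M := by
  haveI : Fact (Nat.Prime 2) := ⟨Nat.prime_two⟩
  obtain ⟨t₀, ht₀⟩ := exists_prime_orderOf_dvd_card' (G := H) 2 (even_iff_two_dvd.1 heven)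
  have hto : orderOf (t₀ : G) = 2 := by rw [Subgroup.orderOf_coe, ht₀]
  set t : G := (t₀ : G) with htdef
  set M := stabilizer G (Fix H t) with hM
  have htM : t ∈ M := by
    rw [hM, MulAction.mem_stabilizer_iff, smul_Fix, mul_inv_cancel_right]
  have hFix : ∀ s ∈ M, orderOf s = 2 → Fix H s = Fix H t := by
    intro s hs hso
    rcases Nat.even_or_odd (orderOf (t * s)) with he | ho
    · obtain ⟨hz, hzt, hzs⟩ := central_invol hto hso he
      rw [← Fix_eq_of_commute hB hone hz hso hzs.eq, Fix_eq_of_commute hB hone hz hto hzt.eq]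
    · obtain ⟨d, hd, hds⟩ := exists_conj_of_odd (invol_mul_self hto) (invol_mul_self hso) ho
      have hdM : d ∈ M := (Subgroup.closure_le M).2 (by
        rintro y (rfl | rfl)
        · exact htM
        · exact hs) hd
      rw [hM, MulAction.mem_stabilizer_iff, smul_Fix, hds] at hdM
      exact hdM
  refine ⟨M, fun htop => ?_, ?_, fun g hg => ?_⟩
  · -- otherwise all involutions fix the coset `H`
    have hall : ∀ s : G, orderOf s = 2 → s ∈ H := fun s hs => by
      have h1 : ((1 : G) : G ⧸ H) ∈ Fix H t := by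
        rw [mem_Fix, smul_mk_eq_iff, inv_one, one_mul, mul_one]; exact t₀.2
      rw [← hFix s (htop ▸ Subgroup.mem_top s) hs, mem_Fix, smul_mk_eq_iff, inv_one, one_mul,
        mul_one] at h1
      exact h1
    have hle : Subgroup.normalClosure ({t} : Set G) ≤ H := by
      rw [Subgroup.normalClosure, Subgroup.closure_le]
      intro s hs
      obtain ⟨a, ha, hconj⟩ := Group.mem_conjugatesOfSet_iff.1 hs
      rw [Set.mem_singleton_iff] at ha
      subst ha
      obtain ⟨c, hc⟩ := isConj_iff.1 hconj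
      exact hall s (by rw [← hc, orderOf_conj_eq, hto])
    rcases Subgroup.Normal.eq_bot_or_eq_top
      (inferInstance : (Subgroup.normalClosure ({t} : Set G)).Normal) with h | h
    · refine invol_ne_one hto (Subgroup.mem_bot.1 ?_)
      rw [← h]
      exact Subgroup.subset_normalClosure (Set.mem_singleton t)
    · exact hH (top_le_iff.1 (h ▸ hle))
  · rw [even_iff_two_dvd, ← hto]
    have := orderOf_dvd_natCard (⟨t, htM⟩ : M)
    rwa [Subgroup.orderOf_mk] at this
  · rw [odd_card_iff_no_invol]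
    intro s hs hso
    refine hg ?_
    obtain ⟨hsM, y, hy, hys⟩ := hs
    simp only [MulEquiv.coe_toMonoidHom, MulAut.conj_apply] at hys
    have hyo : orderOf y = 2 := by rw [← hso, ← hys, orderOf_conj_eq]
    rw [hM, MulAction.mem_stabilizer_iff]
    conv_lhs => rw [← hFix y hy hyo]
    rw [smul_Fix, hys, hFix s hsM hso]

end Cfsg.Agent.Lib.Binary95
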