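import Cfsg.Agent.Lib.Binary95.U3Borel
import Cfsg.Agent.Lib.Binary95.Triple

/-!
# `PSU₃(q)`, `q` even: the binary coset actions with a point stabiliser of even order
-/

set_option autoImplicit false
set_option linter.unusedSectionVars false
set_option linter.style.haveILetI false

namespace Cfsg.Agent.Lib.Binary95.U3

open scoped Pointwise
open MulAction Cfsg.Agent.Lib.Unitary Cfsg.Agent.Lib.U3Sylow Cfsg.Agent.Lib.SzBinary56

variable {F : Type*} [Field F] [Fintype F] {n : ℕ}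
variable (hF : Fintype.card F = (2 ^ n) ^ 2) {x : F} (hx : x + x ^ 2 ^ n = 1)

local notation "∞₀" => (none : Option (Pairs F (2 ^ n)))

/-- The subfield has an element other than `0` and `1`. -/
theorem exists_fixed_ne (hn : 2 ≤ n) (hF : Fintype.card F = (2 ^ n) ^ 2) :
    ∃ k : F, k ^ 2 ^ n = k ∧ k ≠ 0 ∧ k ≠ 1 := by
  classical
  by_contra hall
  push Not at hall
  have h1 := card_fixed hF (F := F)
  rw [Nat.card_eq_fintype_card, Fintype.card_subtype] at h1
  have h2 : (Finset.univ.filter fun r : F => r ^ 2 ^ n = r) ⊆ {0, 1} := fun r hr => by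
    rw [Finset.mem_insert, Finset.mem_singleton]
    by_cases h0 : r = 0
    · exact Or.inl h0
    · exact Or.inr (hall r (Finset.mem_filter.1 hr).2 h0)
  have h3 := (Finset.card_le_card h2).trans (Finset.card_le_two)
  have : 2 ^ 2 ≤ 2 ^ n := Nat.pow_le_pow_right two_pos hn
  omega

/-- A binary stabiliser inside the Borel subgroup containing the central root group equals it. -/
theorem eq_centre_of_fix (hn : 2 ≤ n) {H : Subgroup (Grp hF hx)} (hB : Bin H)
    (hfix : ∀ g ∈ H, g • ∞₀ = ∞₀) (hZ : Zc hF hx ≤ H) : H = Zc hF hx := by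
  by_cases hQ : fstGrp hF hx H = ⊤
  · exact absurd hB (not_bin_unip hF hx hn hfix fun p =>
      tl_mem_of_fst hF hx hZ (hQ ▸ AddSubgroup.mem_top _))
  by_cases hQ0 : fstGrp hF hx H = ⊥
  swap
  · exact absurd hB (not_bin_partial hF hx hn hfix hZ hQ hQ0)
  refine le_antisymm (fun g hg => ?_) hZ
  obtain ⟨p, l, rfl⟩ := eq_of_fix hF hx (hfix g hg)
  by_cases hl : sg n l = 1
  · have h := fst_mem_of_borel hF hx hg hl
    rw [hQ0, AddSubgroup.mem_bot] at h
    rw [(dl_eq_one_iff hF hx l).2 hl, mul_one]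
    exact ⟨p, h, rfl⟩
  exfalso
  have h1σ : 1 + sg n l ≠ 0 := fun e => hl (by linear_combination e - add_self hF (1 : F))
  obtain ⟨y, hy⟩ := exists_pair hF (p.1.1 / (1 + sg n l))
  set M := H.map (MulAut.conj (tl hF hx y)⁻¹).toMonoidHom with hM
  have hmem : ∀ k, k ∈ H → (tl hF hx y)⁻¹ * k * tl hF hx y ∈ M := fun k hk => ⟨k, hk, by simp⟩
  have hMfix : ∀ k ∈ M, k • ∞₀ = ∞₀ := by
    rintro _ ⟨k, hk, rfl⟩
    simp only [MulEquiv.coe_toMonoidHom, MulAut.conj_apply, inv_inv, mul_smul, tl_none, hfix k hk,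
      inv_smul_eq_iff]
  have hMZ : Zc hF hx ≤ M := fun z hz => by
    have := hmem z (hZ hz)
    rwa [mul_assoc, Zc_comm hF hx y hz, inv_mul_cancel_left] at this
  have hMQ : ∀ r : Pairs F (2 ^ n), tl hF hx r ∈ M → r.1.1 = 0 := by
    intro r hr
    obtain ⟨k, hk, hke⟩ := hr
    have he : k = tl hF hx (padd hF (padd hF y r) (pinv hF y)) := by
      rw [← tl_mul, ← tl_mul, ← hke, ← tl_inv]
      simp [mul_assoc]
    have h : (padd hF (padd hF y r) (pinv hF y)).1.1 ∈ fstGrp hF hx H := ⟨_, rfl, he ▸ hk⟩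
    rw [hQ0, AddSubgroup.mem_bot] at h
    simp only [padd, pinv] at h
    linear_combination h - add_self hF y.1.1
  obtain ⟨r0, hr01, hr0⟩ := borel_conj hF hx y p l
  have hr00 : r0.1.1 = 0 := by
    rw [hr01, hy]
    have h2 := two_eq_zero hF
    field_simp
    linear_combination (p.1.1 * (1 + sg n l)) * h2
  have hdM : dl hF hx l ∈ M := by
    have h1 := hmem _ hg
    rw [hr0] at h1
    have h2 := M.mul_mem (M.inv_mem (hMZ ⟨r0, hr00, rfl⟩)) h1
    rwa [inv_mul_cancel_left] at h2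
  refine not_bin_frob hF hx (H := M) hMZ ?_ (fun _ _ k hk _ => hMfix k hk) hdM hl (hB.conj _)
  intro k hk hk0
  obtain ⟨r, m, rfl⟩ := eq_of_fix hF hx hk0
  refine ⟨r, m, ?_, rfl⟩
  have h3 := M.mul_mem (M.mul_mem (M.mul_mem hdM hk) (M.inv_mem hdM)) (M.inv_mem hk)
  rw [show dl hF hx l * (tl hF hx r * dl hF hx m) * (dl hF hx l)⁻¹ * (tl hF hx r * dl hF hx m)⁻¹ =
      dl hF hx l * tl hF hx r * (dl hF hx l)⁻¹ *
        (dl hF hx l * dl hF hx m * (dl hF hx l)⁻¹ * (dl hF hx m)⁻¹) * (tl hF hx r)⁻¹ by group,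
    dl_mul hF hx l m, dl_inv hF hx l, dl_mul, mul_inv_cancel_comm, mul_inv_cancel, mul_one,
    ← dl_inv, dl_conj, tl_inv, tl_mul] at h3
  have h4 := hMQ _ h3
  simp only [padd, tau, pinv] at h4
  exact (mul_eq_zero.1 (show (1 + sg n l) * r.1.1 = 0 by linear_combination h4)).resolve_left h1σ

/-- A binary stabiliser containing two opposite central root groups is the whole group. -/
theorem eq_top_of_moving (hn : 2 ≤ n) {M : Subgroup (Grp hF hx)} (hB : Bin M) (hZ : Zc hF hx ≤ M)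
    {g : Grp hF hx} (hg : g ∈ M) (hgp : g • ∞₀ = some (zp hF)) : M = ⊤ := by
  by_contra hM
  -- the root group at a point of the orbit of `none`
  have horb : ∀ k ∈ M, ∀ p : Pairs F (2 ^ n), k • ∞₀ = some p → ∀ z ∈ Zc hF hx,
      tl hF hx p * (wl hF hx * z * wl hF hx) * (tl hF hx p)⁻¹ ∈ M := by
    intro k hk p hkp z hz
    set e := tl hF hx p * (wl hF hx * z * wl hF hx) * (tl hF hx p)⁻¹ with he
    have h1 : (tl hF hx p * wl hF hx)⁻¹ * e * (tl hF hx p * wl hF hx) ∈ Zc hF hx := by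
      rw [he, show (tl hF hx p * wl hF hx)⁻¹ *
          (tl hF hx p * (wl hF hx * z * wl hF hx) * (tl hF hx p)⁻¹) * (tl hF hx p * wl hF hx) =
          z * (wl hF hx * wl hF hx) by group, wl_mul_self, mul_one]
      exact hz
    have h2 : k⁻¹ * e * k ∈ M :=
      hZ (conj_of_point hF hx h1 (by rw [mul_smul, wl_none, tl_zp, hkp]))
    have h3 := M.mul_mem (M.mul_mem hk h2) (M.inv_mem hk)
    rwa [show k * (k⁻¹ * e * k) * k⁻¹ = e by group] at h3
  have hopp : ∀ z ∈ Zc hF hx, wl hF hx * z * wl hF hx ∈ M := fun z hz => by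
    simpa [tl_zero] using horb g hg (zp hF) hgp z hz
  -- the small group at a point of the orbit
  have hword : ∀ W : Subgroup (Grp hF hx), Zc hF hx ≤ W →
      (∀ z ∈ Zc hF hx, wl hF hx * z * wl hF hx ∈ W) →
      wl hF hx ∈ W ∧ ∀ l : Fˣ, (l : F) ^ 2 ^ n = l → dl hF hx l ∈ W := by
    intro W h1 h2
    have hw : wl hF hx ∈ W := by
      rw [wl_eq]
      exact W.mul_mem (W.mul_mem (h1 (cp_mem_Zc hF hx _ _)) (h2 _ (cp_mem_Zc hF hx _ _)))
        (h1 (cp_mem_Zc hF hx _ _))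
    refine ⟨hw, fun l hl => ?_⟩
    rw [dl_fixed_eq hF hx l hl]
    exact W.mul_mem (W.mul_mem (W.mul_mem (h1 (cp_mem_Zc hF hx _ _)) (h2 _ (cp_mem_Zc hF hx _ _)))
      (h1 (cp_mem_Zc hF hx _ _))) hw
  obtain ⟨hwM, hdM⟩ := hword M hZ hopp
  obtain ⟨k, hk, hk0, hk1⟩ := exists_fixed_ne hn hF
  set Q := fstGrp hF hx M with hQdef
  have hQinv : ∀ a ∈ Q, ∀ r : F, r ^ 2 ^ n = r → r * a ∈ Q := by
    intro a ha r hr
    by_cases hr0 : r = 0
    · rw [hr0, zero_mul]; exact Q.zero_mem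
    obtain ⟨p, rfl, hp⟩ := ha
    have hd := hdM (Units.mk0 r hr0) hr
    refine ⟨tau hF (Units.mk0 r hr0) p, ?_, ?_⟩
    · show sg n _ * p.1.1 = _
      rw [sg_fixed hF (Units.mk0 r hr0) hr, Units.val_mk0]
    · rw [← dl_conj]
      exact M.mul_mem (M.mul_mem hd hp) (M.inv_mem hd)
  have hstar : ∀ m ∈ M, ∀ p : Pairs F (2 ^ n), m • ∞₀ = some p → p.1.1 ∈ Q := by
    intro m hm p hmp
    have hW := hword (M.comap (MulAut.conj (tl hF hx p)).toMonoidHom) (fun z hz => by
      rw [Subgroup.mem_comap, MulEquiv.coe_toMonoidHom, MulAut.conj_apply, ← Zc_comm hF hx p hz,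
        mul_inv_cancel_right]
      exact hZ hz) (fun z hz => by
      rw [Subgroup.mem_comap, MulEquiv.coe_toMonoidHom, MulAut.conj_apply]
      exact horb m hm p hmp z hz)
    have h1 := hW.2 (Units.mk0 k hk0) hk
    rw [Subgroup.mem_comap, MulEquiv.coe_toMonoidHom, MulAut.conj_apply] at h1
    have h2 := M.mul_mem h1 (M.inv_mem (hdM (Units.mk0 k hk0) hk))
    rw [show tl hF hx p * dl hF hx (Units.mk0 k hk0) * (tl hF hx p)⁻¹ * (dl hF hx (Units.mk0 k hk0))⁻¹ =
      tl hF hx p * (dl hF hx (Units.mk0 k hk0) * (tl hF hx p)⁻¹ * (dl hF hx (Units.mk0 k hk0))⁻¹) by group,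
      tl_inv, dl_conj, tl_mul] at h2
    have h3 : (1 + k) * p.1.1 ∈ Q := ⟨_, by
      show p.1.1 + sg n _ * p.1.1 = _
      rw [sg_fixed hF (Units.mk0 k hk0) hk, Units.val_mk0]; ring, h2⟩
    have h1k : 1 + k ≠ 0 := fun e => hk1 (by linear_combination e - add_self hF (1 : F))
    have h4 := hQinv _ h3 (1 + k)⁻¹ (by rw [inv_pow, add_pow_q hF, one_pow, hk])
    rwa [inv_mul_cancel_left₀ h1k] at h4
  -- no translation outside the centre
  have hQ0 : ∀ a ∈ Q, a = 0 := by
    intro c hc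
    by_contra hc0
    obtain ⟨p, hp⟩ := exists_pair hF c
    have hrow : ∀ p' : Pairs F (2 ^ n), p'.1.1 = c → c / p'.1.2 ∈ Q := by
      intro p' hp'
      have hne : p' ≠ zp hF := fun e => hc0 (by rw [← hp', e]; rfl)
      obtain ⟨r, hr, hr'⟩ := wl_some hF hx p' hne
      have hmem : wl hF hx * tl hF hx p' * wl hF hx ∈ M :=
        M.mul_mem (M.mul_mem hwM (tl_mem_of_fst hF hx hZ (hp'.symm ▸ hc))) hwM
      have := hstar _ hmem r (by rw [mul_smul, mul_smul, wl_none, tl_zp, hr])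
      rwa [congrArg Prod.fst hr', hp'] at this
    have hb : p.1.2 ≠ 0 := snd_ne_zero hF fun e => hc0 (by rw [← hp, e]; rfl)
    have hQ : Q = ⊤ := by
      refine (AddSubgroup.eq_top_iff' _).2 fun v => ?_
      have hd : (c / p.1.2 / c) ^ 2 ^ n ≠ c / p.1.2 / c := by
        intro e
        rw [div_right_comm, div_self hc0, one_div, inv_pow, inv_inj] at e
        have h2 := p.2
        rw [hp, e, add_self hF, eq_comm, mul_eq_zero] at h2
        exact hc0 (h2.elim id fun h => pow_eq_zero_iff (Nat.two_pow_pos n).ne' |>.1 h)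
      obtain ⟨α, β, hα, hβ, rfl⟩ := exists_coords hF hc0 hd v
      exact Q.add_mem (hQinv c hc α hα) (hQinv _ (hrow p hp) β hβ)
    exact hM (eq_top_of_mem hF hx hn (fun p => tl_mem_of_fst hF hx hZ
      (by rw [← hQdef, hQ]; exact AddSubgroup.mem_top _)) hwM)
  have hk0' : dl hF hx (Units.mk0 k hk0) ∈ M := hdM _ hk
  refine not_bin_frob hF hx (H := M) hZ ?_ ?_ hk0'
    (by rw [sg_fixed hF (Units.mk0 k hk0) hk]; exact hk1) hB
  · intro m hm hm0
    obtain ⟨p, l, rfl⟩ := eq_of_fix hF hx hm0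
    exact ⟨p, l, hQ0 _ (hstar _ (M.mul_mem hm hwM) p (by rw [mul_smul, wl_none, borel_zp])), rfl⟩
  · intro u hu m hm hum
    rcases e : m • ∞₀ with _ | r
    · rfl
    exfalso
    have h1 := hQ0 _ (hstar m hm r e)
    have h2 := hQ0 _ (hstar _ hum (padd hF (pinv hF u) r)
      (by rw [mul_smul, mul_smul, tl_none, e, tl_inv, tl_some]))
    simp only [padd, pinv, hu, h1, add_zero] at h2
    exact one_ne_zero h2

/-- The classification for stabilisers of even order. -/
theorem bin_iff (hn : 2 ≤ n)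
    (hone : ∀ s t : Grp hF hx, orderOf s = 2 → orderOf t = 2 → IsConj s t)
    {H : Subgroup (Grp hF hx)} (hH : H ≠ ⊤) (heven : Even (Nat.card H)) :
    Bin H ↔ ∃ u : Grp hF hx, H = (Zc hF hx).map (MulAut.conj u).toMonoidHom := by
  refine ⟨fun hB => ?_, fun ⟨u, hu⟩ => hu ▸ (bin_centre hF hx).conj u⟩
  haveI : Fact (Nat.Prime 2) := ⟨Nat.prime_two⟩
  obtain ⟨t, ht⟩ := exists_prime_orderOf_dvd_card' (G := H) 2 (even_iff_two_dvd.1 heven)
  have hto : orderOf (t : Grp hF hx) = 2 := by rw [Subgroup.orderOf_coe, ht]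
  obtain ⟨o, ho⟩ := exists_fix hF hx (K := Subgroup.zpowers (t : Grp hF hx))
    (IsPGroup.of_card (n := 1) (by rw [Nat.card_zpowers, hto, pow_one]))
  obtain ⟨u, hu⟩ := exists_move hF hx o
  set M := H.map (MulAut.conj u⁻¹).toMonoidHom with hM
  have hMB : Bin M := hB.conj u⁻¹
  set t' := u⁻¹ * (t : Grp hF hx) * u with ht'
  have ht'M : t' ∈ M := ⟨t, t.2, by simp [ht']⟩
  have hto' : orderOf t' = 2 :=
    (by simpa [ht'] using Involutions.Basic.orderOf_conj_eq u⁻¹ (t : Grp hF hx) :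
      orderOf t' = orderOf (t : Grp hF hx)).trans hto
  have ht'0 : t' • ∞₀ = ∞₀ := by
    rw [ht', mul_smul, mul_smul, hu, ho _ (Subgroup.mem_zpowers _), ← hu, inv_smul_smul]
  obtain ⟨p, hp⟩ := mem_Un_of_pow hF hx ht'0 (k := 1) (by rw [pow_one, pow_two]; exact Involutions.Basic.invol_mul_self hto')
  have hp0 : p.1.1 = 0 := by
    have h1 := Involutions.Basic.invol_mul_self hto'
    rw [hp, tl_mul, ← tl_zero hF hx] at h1
    have h2 := congrArg Prod.snd (congrArg Subtype.val (tl_injective hF hx h1))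
    simp only [padd, zp, cp, add_self hF, zero_add] at h2
    rcases mul_eq_zero.1 h2 with h | h
    · exact pow_eq_zero_iff (Nat.two_pow_pos n).ne' |>.1 h
    · exact h
  have ht'Z : t' ∈ Zc hF hx := ⟨p, hp0, hp⟩
  have hMtop : M ≠ ⊤ := fun e => hH (Subgroup.map_injective
    (f := (MulAut.conj u⁻¹).toMonoidHom) (MulEquiv.injective _)
    (e.trans (Subgroup.map_top_of_surjective _ (MulEquiv.surjective _)).symm))
  have hZ : Zc hF hx ≤ M := by
    intro z hz
    by_cases hz1 : z = 1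
    · rw [hz1]; exact M.one_mem
    refine mem_of_commute hMB hone ht'M hto' (Involutions.Basic.invol_iff.2 ⟨Zc_sq hF hx hz, hz1⟩) ?_
    rw [hp]
    exact (Zc_comm hF hx p hz).symm
  have hfix : ∀ g ∈ M, g • ∞₀ = ∞₀ := by
    intro g hg
    rcases e : g • ∞₀ with _ | r
    · rfl
    exfalso
    set M' := M.map (MulAut.conj (tl hF hx r)⁻¹).toMonoidHom with hM'
    have hg' : (tl hF hx r)⁻¹ * g * tl hF hx r ∈ M' := ⟨g, hg, by simp⟩
    have hM'Z : Zc hF hx ≤ M' := fun z hz => ⟨z, hZ hz, by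
      simp only [MulEquiv.coe_toMonoidHom, MulAut.conj_apply, inv_inv]
      rw [mul_assoc, Zc_comm hF hx r hz, inv_mul_cancel_left]⟩
    have := eq_top_of_moving hF hx hn (hMB.conj _) hM'Z hg'
      (by rw [mul_smul, mul_smul, tl_none, e, inv_smul_eq_iff, tl_zp])
    exact hMtop (Subgroup.map_injective
      (f := (MulAut.conj (tl hF hx r)⁻¹).toMonoidHom) (MulEquiv.injective _)
      (this.trans (Subgroup.map_top_of_surjective _ (MulEquiv.surjective _)).symm))
  refine ⟨u, ?_⟩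
  rw [← eq_centre_of_fix hF hx hn hMB hfix hZ, hM, Subgroup.map_map]
  convert (Subgroup.map_id H).symm using 2
  ext s; simp [mul_assoc]

/-- Transport along an isomorphism. -/
theorem bin_iff_equiv (hn : 2 ≤ n) (hF : Fintype.card F = (2 ^ n) ^ 2) {G : Type*} [Group G] (e : Cfsg.PSU 3 F (2 ^ n) ≃* G)
    (hone : ∀ s t : G, orderOf s = 2 → orderOf t = 2 → IsConj s t)
    (H : Subgroup G) (hH : H ≠ ⊤) (heven : Even (Nat.card H)) :
    Bin H ↔ ∃ P : Sylow 2 G, H = (Subgroup.center (P : Subgroup G)).map (P : Subgroup G).subtype := by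
  obtain ⟨x, hx⟩ := trace_surj hF (y := 1) (one_pow _)
  set f : Grp hF hx ≃* G := (equivPSU hF hx).trans e with hf
  haveI : Fact (Nat.Prime 2) := ⟨Nat.prime_two⟩
  haveI : Finite G := Finite.of_equiv _ f.toEquiv
  set K := H.map f.symm.toMonoidHom with hK
  have hHK : H = K.map f.toMonoidHom := by
    rw [hK, Subgroup.map_map]
    convert (Subgroup.map_id H).symm using 2
    ext s; simp
  have hKtop : K ≠ ⊤ := fun z => hH (by rw [hHK, z, Subgroup.map_top_of_surjective _ f.surjective])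
  have hKeven : Even (Nat.card K) := by
    rwa [hK, ← Nat.card_congr (H.equivMapOfInjective _ f.symm.injective).toEquiv]
  have honeK : ∀ s t : Grp hF hx, orderOf s = 2 → orderOf t = 2 → IsConj s t := by
    intro s t hs ht
    have := (hone (f s) (f t) (by rw [f.orderOf_eq, hs]) (by rw [f.orderOf_eq, ht]))
    obtain ⟨c, hc⟩ := isConj_iff.1 this
    exact isConj_iff.2 ⟨f.symm c, f.injective (by rw [map_mul, map_mul, map_inv, f.apply_symm_apply, hc])⟩
  rw [hHK, Bin.map_iff, bin_iff hF hx hn honeK hKtop hKeven, ← sylow_centre_iff hF hx]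
  constructor
  · rintro ⟨P, hP⟩
    have hs : Function.Surjective f.toMonoidHom := f.surjective
    refine ⟨P.mapSurjective hs, ?_⟩
    rw [Sylow.coe_mapSurjective, center_map_equiv, hP]
  · rintro ⟨P, hP⟩
    have hs : Function.Surjective f.symm.toMonoidHom := f.symm.surjective
    refine ⟨P.mapSurjective hs, ?_⟩
    rw [Sylow.coe_mapSurjective, center_map_equiv, ← hP, Subgroup.map_map]
    convert (Subgroup.map_id K).symm using 2
    ext s; simp

end Cfsg.Agent.Lib.Binary95.U3
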