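import Cfsg.Prelude.Def_Sz
import Cfsg.Agent.Lib.Binary95.U3Main
import Cfsg.Agent.Lib.BenderConsumers23.Simple
import Cfsg.Agent.Lib.BenderSuzuki.Main
import Cfsg.Agent.Lib.BinaryPSL2.Main

/-!
# Binary coset actions of simple groups with one class of involutions (row S5735)

`row5735` is conditional on part I of Bender's theorem only.
-/

set_option autoImplicit false
set_option linter.unusedSectionVars false
set_option linter.style.haveILetI false

namespace Cfsg.Agent.Lib.Binary95

open Cfsg.Agent.Lib.SzBinary56 Cfsg.Agent.Lib.BenderConsumers23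
open scoped Pointwise

universe u

/-- The projective and the special linear group of degree two coincide in characteristic two. -/
theorem nonempty_psl_equiv_sl (F : Type) [Field F] [CharP F 2] :
    Nonempty (Matrix.ProjectiveSpecialLinearGroup (Fin 2) F ≃* Matrix.SpecialLinearGroup (Fin 2) F) := by
  have hc : Subgroup.center (Matrix.SpecialLinearGroup (Fin 2) F) = ⊥ := by
    rw [Subgroup.eq_bot_iff_forall]
    intro A hA
    obtain ⟨r, hr, hA'⟩ := Matrix.SpecialLinearGroup.mem_center_iff.1 hA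
    rw [Fintype.card_fin] at hr
    have hr1 : r = 1 := CharTwo.sq_injective (by simpa using hr)
    refine Subtype.ext ?_
    rw [← hA', hr1, map_one]
    rfl
  exact ⟨(QuotientGroup.quotientMulEquivOfEq hc).trans QuotientGroup.quotientBot⟩

theorem charP_two_of_card {F : Type} [Field F] [Fintype F] {a : ℕ} (ha : 2 ≤ a)
    (hF : Fintype.card F = 2 ^ a) : CharP F 2 := by
  have h : ringChar F = 2 := FiniteField.even_card_iff_char_two.2 (by
    rw [hF, ← Nat.even_iff]
    exact Nat.even_pow.2 ⟨even_two, by omega⟩)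
  exact h ▸ ringChar.charP F

/-- The linear groups. -/
theorem bin_iff_psl {G : Type u} [Group G] [Finite G] {F : Type} [Field F] [Fintype F] {a : ℕ}
    (ha : 2 ≤ a) (hF : Fintype.card F = 2 ^ a) (e : Matrix.ProjectiveSpecialLinearGroup (Fin 2) F ≃* G)
    {H : Subgroup G} (hH : H ≠ ⊤) (heven : Even (Nat.card H)) :
    Bin H ↔ ∃ P : Sylow 2 G, H = P := by
  classical
  haveI : Fact (Nat.Prime 2) := ⟨Nat.prime_two⟩
  haveI := charP_two_of_card ha hF
  have hq4 : 4 ≤ Fintype.card F := by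
    rw [hF]; calc 4 = 2 ^ 2 := rfl
      _ ≤ 2 ^ a := Nat.pow_le_pow_right two_pos ha
  have h5 : Fintype.card F ≠ 5 := fun h => by
    have : Even (2 ^ a) := Nat.even_pow.2 ⟨even_two, by omega⟩
    rw [← hF, h] at this
    exact absurd this (by decide)
  set K := H.map e.symm.toMonoidHom with hK
  have hHK : H = K.map e.toMonoidHom := by
    rw [hK, Subgroup.map_map]
    convert (Subgroup.map_id H).symm using 2
    ext s; simp
  have hKtop : K ≠ ⊤ := fun z => hH (by rw [hHK, z, Subgroup.map_top_of_surjective _ e.surjective])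
  have hKeven : Even (Nat.card K) := by
    rwa [hK, ← Nat.card_congr (H.equivMapOfInjective _ e.symm.injective).toEquiv]
  rw [hHK, Bin.map_iff]
  constructor
  · intro hB
    rcases BinaryPSL2.binary_cases (p := 2) hq4 h5 hKtop hB with h | ⟨-, Q, hQ⟩ | ⟨-, h⟩
    · rw [h, Subgroup.card_bot] at hKeven
      exact absurd hKeven (by decide)
    · have hs : Function.Surjective e.toMonoidHom := e.surjective
      exact ⟨Q.mapSurjective hs, by rw [Sylow.coe_mapSurjective, hQ]⟩
    · rw [h] at hKeven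
      exact absurd hKeven (by decide)
  · rintro ⟨P, hP⟩
    obtain ⟨U, hU⟩ := BinaryPSL2.exists_transl_sylow (F := F) (p := 2)
    have hs : Function.Surjective e.symm.toMonoidHom := e.symm.surjective
    have hKP : K = (P.mapSurjective hs : Sylow 2 (Matrix.ProjectiveSpecialLinearGroup (Fin 2) F)) := by
      rw [Sylow.coe_mapSurjective, ← hP, Subgroup.map_map]
      convert (Subgroup.map_id K).symm using 2
      ext s; simp
    obtain ⟨g, hg⟩ := MulAction.exists_smul_eq (Matrix.ProjectiveSpecialLinearGroup (Fin 2) F) U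
      (P.mapSurjective hs)
    rw [hKP, ← hg, Sylow.coe_subgroup_smul]
    exact (BinaryPSL2.isBinary_map_iff (MulAut.conj g)).mpr
      (BinaryPSL2.isBinary_translations (CharP.cast_eq_zero F 2) hU)

/-- The Suzuki groups. -/
theorem bin_iff_suzuki {G : Type u} [Group G] (hG : Cfsg.Lie.IsoSuzuki G) {H : Subgroup G}
    (hH : H ≠ ⊤) (heven : Even (Nat.card H)) :
    Bin H ↔ ∃ P : Sylow 2 G, H = (Subgroup.center (P : Subgroup G)).map (P : Subgroup G).subtype := by
  obtain ⟨F, i, j, m, hm, hF, ⟨e⟩⟩ := hG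
  rw [SzBinary56.bin_iff_equiv (h := ⟨hF⟩) hm
    ((LieTwisted.Suzuki.szEquiv ⟨hF⟩ hm).trans e.symm) H hH]
  refine ⟨fun h => h.resolve_left fun h0 => ?_, Or.inr⟩
  rw [h0, Subgroup.card_bot] at heven
  exact absurd heven (by decide)

/-- A simple group with a proper subgroup of even order is not commutative. -/
theorem not_comm {G : Type u} [Group G] [Finite G] [IsSimpleGroup G] {H : Subgroup G} (hH : H ≠ ⊤)
    (heven : Even (Nat.card H)) : ∃ a b : G, a * b ≠ b * a := by
  by_contra hall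
  push Not at hall
  have hN : H.Normal := ⟨fun h hh g => by rwa [hall g h, mul_inv_cancel_right]⟩
  rw [hN.eq_bot_or_eq_top.resolve_right hH, Subgroup.card_bot] at heven
  exact absurd heven (by decide)

/-- **Row S5735**, given part I of Bender's theorem. -/
theorem row5735 (hP : PropPartOne.{u}) {G : Type u} [Group G] [Finite G] [IsSimpleGroup G]
    (hone : ∀ s t : G, orderOf s = 2 → orderOf t = 2 → IsConj s t)
    (H : Subgroup G) (hH : H ≠ ⊤) (heven : Even (Nat.card H)) :
    Bin H ↔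
      (((∃ (F : Type) (_ : Field F) (_ : Fintype F) (a : ℕ), 2 ≤ a ∧ Fintype.card F = 2 ^ a ∧ Nonempty (G ≃* Matrix.SpecialLinearGroup (Fin 2) F)) ∧
          ∃ P : Sylow 2 G, H = P) ∨
        (Cfsg.Lie.IsoSuzuki G ∧ ∃ P : Sylow 2 G, H = (Subgroup.center (P : Subgroup G)).map (P : Subgroup G).subtype) ∨
        ((∃ (F : Type) (_ : Field F) (_ : Fintype F) (a : ℕ), 2 ≤ a ∧ Fintype.card F = (2 ^ a) ^ 2 ∧ Nonempty (G ≃* Cfsg.PSU 3 F (2 ^ a))) ∧
          ∃ P : Sylow 2 G, H = (Subgroup.center (P : Subgroup G)).map (P : Subgroup G).subtype)) := by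
  constructor
  · intro hB
    obtain ⟨M, hM⟩ := exists_stronglyEmbedded hB hone hH heven
    obtain ⟨hT, -⟩ := simple_case hP BenderSuzuki.propMain (not_comm hH heven) hM
    rcases hT with ⟨F, i, j, n, hn, hF, ⟨e⟩⟩ | hS | ⟨F, i, j, n, hn, hF, ⟨e⟩⟩
    · haveI := charP_two_of_card hn hF
      obtain ⟨f⟩ := nonempty_psl_equiv_sl F
      exact Or.inl ⟨⟨F, i, j, n, hn, hF, ⟨e.trans f⟩⟩, (bin_iff_psl hn hF e.symm hH heven).1 hB⟩
    · exact Or.inr (Or.inl ⟨hS, (bin_iff_suzuki hS hH heven).1 hB⟩)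
    · exact Or.inr (Or.inr ⟨⟨F, i, j, n, hn, hF, ⟨e⟩⟩,
        (U3.bin_iff_equiv hn hF e.symm hone H hH heven).1 hB⟩)
  · rintro (⟨⟨F, i, j, n, hn, hF, ⟨e⟩⟩, h⟩ | ⟨hS, h⟩ | ⟨⟨F, i, j, n, hn, hF, ⟨e⟩⟩, h⟩)
    · haveI := charP_two_of_card hn hF
      obtain ⟨f⟩ := nonempty_psl_equiv_sl F
      exact (bin_iff_psl hn hF (f.trans e.symm) hH heven).2 h
    · exact (bin_iff_suzuki hS hH heven).2 h
    · exact (U3.bin_iff_equiv hn hF e.symm hone H hH heven).2 h

end Cfsg.Agent.Lib.Binary95
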