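import Cfsg.Agent.Lib.Binary95.U3Centre

/-!
# `PSU₃(q)`, `q` even: binary coset actions with a stabiliser containing a central root group

Three arguments: a torus element gives a forbidden configuration; a full translation group is
excluded by counting; an intermediate group of translations by comparing multipliers.
-/

set_option autoImplicit false
set_option linter.unusedSectionVars false
set_option linter.style.haveILetI false

namespace Cfsg.Agent.Lib.Binary95.U3

open scoped Pointwise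
open MulAction Cfsg.Agent.Lib.Unitary Cfsg.Agent.Lib.U3Sylow Cfsg.Agent.Lib.SzBinary56

variable {F : Type*} [Field F] [Fintype F] {n : ℕ}
variable (hF : Fintype.card F = (2 ^ n) ^ 2) {x : F} (hx : x + x ^ 2 ^ n = 1)

local notation "∞₀" => (none : Option (Pairs F (2 ^ n)))

/-- The first coordinates of the translations in a subgroup. -/
noncomputable def fstGrp (H : Subgroup (Grp hF hx)) : AddSubgroup F where
  carrier := {a | ∃ p : Pairs F (2 ^ n), p.1.1 = a ∧ tl hF hx p ∈ H}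
  zero_mem' := ⟨zp hF, rfl, by rw [tl_zero]; exact H.one_mem⟩
  add_mem' := by
    rintro _ _ ⟨p, rfl, hp⟩ ⟨r, rfl, hr⟩
    exact ⟨padd hF p r, rfl, by rw [← tl_mul]; exact H.mul_mem hp hr⟩
  neg_mem' := by
    rintro _ ⟨p, rfl, hp⟩
    refine ⟨p, ?_, hp⟩
    haveI := charP_two hF
    rw [CharTwo.neg_eq]

theorem mem_fstGrp {H : Subgroup (Grp hF hx)} {a : F} :
    a ∈ fstGrp hF hx H ↔ ∃ p : Pairs F (2 ^ n), p.1.1 = a ∧ tl hF hx p ∈ H := Iff.rfl

variable {H : Subgroup (Grp hF hx)}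

/-- Membership of a translation depends on its first coordinate only. -/
theorem tl_mem_of_fst (hZ : Zc hF hx ≤ H) {p : Pairs F (2 ^ n)}
    (hp : p.1.1 ∈ fstGrp hF hx H) : tl hF hx p ∈ H := by
  obtain ⟨r, hr, hrH⟩ := hp
  have h1 : (padd hF p (pinv hF r)).1.1 = 0 := by simp [padd, pinv, hr, add_self hF]
  have h2 := H.mul_mem (hZ ⟨_, h1, rfl⟩) hrH
  rwa [← tl_mul, ← tl_inv, inv_mul_cancel_right] at h2

/-- Conjugating an element of the Borel subgroup by a translation. -/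
theorem borel_conj (y p : Pairs F (2 ^ n)) (l : Fˣ) :
    ∃ r : Pairs F (2 ^ n), r.1.1 = y.1.1 + p.1.1 + sg n l * y.1.1 ∧
      (tl hF hx y)⁻¹ * (tl hF hx p * dl hF hx l) * tl hF hx y = tl hF hx r * dl hF hx l := by
  refine ⟨padd hF (padd hF (pinv hF y) p) (tau hF l y), by simp [padd, pinv, tau], ?_⟩
  rw [← tl_mul, ← tl_mul, ← tl_inv, ← dl_conj hF hx l y]
  group

/-- The translation part of an element of `H` in the Borel subgroup with trivial torus part. -/
theorem fst_mem_of_borel {p : Pairs F (2 ^ n)} {l : Fˣ} (h : tl hF hx p * dl hF hx l ∈ H)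
    (hl : sg n l = 1) : p.1.1 ∈ fstGrp hF hx H :=
  ⟨p, rfl, by rwa [(dl_eq_one_iff hF hx l).2 hl, mul_one] at h⟩

/-- A torus element and no translations outside the centre: not binary. -/
theorem not_bin_frob (hZ : Zc hF hx ≤ H)
    (hshape : ∀ g ∈ H, g • ∞₀ = ∞₀ →
      ∃ (e : Pairs F (2 ^ n)) (m : Fˣ), e.1.1 = 0 ∧ g = tl hF hx e * dl hF hx m)
    (hint : ∀ p : Pairs F (2 ^ n), p.1.1 = 1 → ∀ g ∈ H,
      (tl hF hx p)⁻¹ * g * tl hF hx p ∈ H → g • ∞₀ = ∞₀)
    {l : Fˣ} (hl : dl hF hx l ∈ H) (hl1 : sg n l ≠ 1) : ¬ Bin H := by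
  intro hB
  obtain ⟨p1, hp1⟩ := exists_pair hF (1 : F)
  set u := tl hF hx p1 with hu
  set b := u * dl hF hx l⁻¹ * u⁻¹ with hb
  have h1σ : 1 + sg n l ≠ 0 := fun e => hl1 (by linear_combination e - add_self hF (1 : F))
  obtain ⟨y, hy⟩ := exists_pair hF ((1 + sg n l)⁻¹)
  have hba : b⁻¹ * dl hF hx l =
      tl hF hx (padd hF p1 (tau hF l (pinv hF p1))) * dl hF hx (l * l) := by
    rw [← tl_mul, ← dl_conj, ← dl_mul, ← tl_inv, hb, ← hu, ← dl_inv]
    group
  obtain ⟨r, hr1, hr⟩ := borel_conj hF hx y (padd hF p1 (tau hF l (pinv hF p1))) (l * l)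
  have hr0 : r.1.1 = 0 := by
    have h2 := two_eq_zero hF
    rw [hr1, hy, sg_mul]
    simp only [padd, tau, pinv, hp1, mul_one]
    field_simp
    linear_combination (1 + sg n l + sg n l ^ 2) * h2
  obtain ⟨g, g1, g2, g3⟩ := hB.key (dl hF hx l) b (tl hF hx y) (by
    rw [hba, hr, ← dl_mul]
    exact H.mul_mem (hZ ⟨r, hr0, rfl⟩) (H.mul_mem hl hl))
  have hg : g ∈ H := by
    have := g1 1 (by simpa using hl)
    simpa using this
  have hgu := g2 u (by
    rw [hb, show u⁻¹ * (u * dl hF hx l⁻¹ * u⁻¹) * u = dl hF hx l⁻¹ by group, ← dl_inv]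
    exact H.inv_mem hl)
  obtain ⟨e, m, he, rfl⟩ := hshape g hg (hint p1 hp1 g hg hgu)
  obtain ⟨r', hr'1, hr'⟩ := borel_conj hF hx p1 e m
  rw [hu, hr'] at hgu
  obtain ⟨e', m', he', hee⟩ := hshape _ hgu (borel_none hF hx r' m)
  rw [(borel_inj hF hx hee).1, he', hp1, he] at hr'1
  have hm : sg n m = 1 := by linear_combination hr'1.symm - add_self hF (1 : F)
  rw [(dl_eq_one_iff hF hx m).2 hm, mul_one,
    show (tl hF hx e)⁻¹ = tl hF hx (pinv hF e) from tl_inv hF hx e] at g3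
  obtain ⟨r'', hr''1, hr''⟩ := borel_conj hF hx y (pinv hF e) l
  rw [hr''] at g3
  obtain ⟨e'', m'', he'', hee''⟩ := hshape _ g3 (borel_none hF hx r'' l)
  rw [(borel_inj hF hx hee'').1, he'', hy] at hr''1
  simp only [pinv, he] at hr''1
  field_simp at hr''1
  exact h1σ (by linear_combination -hr''1)

/-- A full translation group: not binary. -/
theorem not_bin_unip (hn : 2 ≤ n) (hfix : ∀ g ∈ H, g • ∞₀ = ∞₀) (hU : ∀ p, tl hF hx p ∈ H) :
    ¬ Bin H := by
  classical
  intro hB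
  let T0 : Subgroup Fˣ := H.comap (dHom hF hx)
  let D := {p : Pairs F (2 ^ n) // p ≠ zp hF}
  have hbru : ∀ p : D, ∃ (r s : Pairs F (2 ^ n)) (f : Fˣ), wl hF hx * tl hF hx p.1 * wl hF hx =
      tl hF hx r * wl hF hx * (tl hF hx s * dl hF hx f) := by
    intro p
    obtain ⟨r, hr, -⟩ := wl_some hF hx p.1 p.2
    obtain ⟨s, f, hsf⟩ := eq_of_fix hF hx
      (g := (tl hF hx r * wl hF hx)⁻¹ * (wl hF hx * tl hF hx p.1 * wl hF hx))
      (by rw [mul_smul, mul_smul, mul_smul, wl_none, tl_zp, hr, inv_smul_eq_iff, mul_smul, wl_none, tl_zp])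
    exact ⟨r, s, f, by rw [← hsf, mul_inv_cancel_left]⟩
  choose R S f hRSf using hbru
  have hcol : ∀ p p' : D, (QuotientGroup.mk (f p) : Fˣ ⧸ T0) = QuotientGroup.mk (f p') →
      ∃ e ∈ T0, p'.1 = tau hF e p.1 := by
    intro p p' hpp
    rw [QuotientGroup.eq] at hpp
    set u := tl hF hx p.1
    set u' := tl hF hx p'.1
    set v := tl hF hx (R p)
    set v' := tl hF hx (R p')
    set a := u' * u⁻¹
    set b := wl hF hx * (v' * v⁻¹) * wl hF hx
    have hbH : (u * wl hF hx)⁻¹ * (b⁻¹ * a) * (u * wl hF hx) ∈ H := by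
      have hkey : (u * wl hF hx)⁻¹ * (b⁻¹ * a) * (u * wl hF hx) =
          (v' * v⁻¹ * (wl hF hx * u * wl hF hx))⁻¹ * (wl hF hx * u' * wl hF hx) := by
        simp only [a, b, mul_inv_rev, inv_inv, wl_inv, mul_assoc, inv_mul_cancel_left]
      rw [hkey, hRSf p, hRSf p']
      have e1 : (dl hF hx (f p))⁻¹ * ((tl hF hx (S p))⁻¹ * tl hF hx (S p')) * dl hF hx (f p) ∈ H := by
        rw [tl_inv, tl_mul, dl_inv]
        have h := dl_conj hF hx (f p)⁻¹ (padd hF (pinv hF (S p)) (S p'))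
        rw [dl_inv, inv_inv] at h
        rw [h]
        exact hU _
      have e2 : (dl hF hx (f p))⁻¹ * dl hF hx (f p') ∈ H := by
        rw [dl_inv, dl_mul]; exact hpp
      have e3 := H.mul_mem e1 e2
      convert e3 using 1
      simp only [v, v']
      group
    obtain ⟨g, g1, g2, g3⟩ := hB.key a b (u * wl hF hx) hbH
    have hg : g ∈ H := by
      have := g1 1 (by simpa using H.mul_mem (hU _) (H.inv_mem (hU _)))
      simpa using this
    have hgw : (wl hF hx)⁻¹ * g * wl hF hx ∈ H := g2 (wl hF hx) (by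
      simp only [b, wl_inv, mul_assoc, wl_mul_self, mul_one]
      rw [← mul_assoc, ← mul_assoc, wl_mul_self, one_mul]
      exact H.mul_mem (hU _) (H.inv_mem (hU _)))
    have hz : g • some (zp hF) = some (zp hF) := by
      have := hfix _ hgw
      rwa [mul_smul, mul_smul, inv_smul_eq_iff, wl_none] at this
    obtain ⟨e, rfl⟩ := eq_dl_of_fix hF hx (hfix g hg) hz
    refine ⟨e, hg, ?_⟩
    have h3 := hfix _ g3
    rw [mul_smul, mul_smul, mul_smul, mul_smul, inv_smul_eq_iff, mul_smul, wl_none, tl_zp,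
      inv_smul_eq_iff] at h3
    change tl hF hx p'.1 • (tl hF hx p.1)⁻¹ • some p.1 = dl hF hx e • some p.1 at h3
    rw [inv_smul_eq_iff.2 (tl_zp hF hx p.1).symm, tl_zp, dl_some] at h3
    exact Option.some.inj h3
  have hfib : ∀ c : Fˣ ⧸ T0,
      (Finset.univ.filter fun p : D => QuotientGroup.mk (f p) = c).card ≤ Nat.card T0 := by
    intro c
    rcases (Finset.univ.filter fun p : D => QuotientGroup.mk (f p) = c).eq_empty_or_nonempty with
      e | ⟨p, hp⟩
    · rw [e, Finset.card_empty]; exact Nat.zero_le _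
    have hp' := (Finset.mem_filter.1 hp).2
    refine le_trans (Finset.card_le_card
      (t := Finset.univ.filter fun p' : D => ∃ e ∈ T0, p'.1 = tau hF e p.1) fun p' hp'' => ?_) ?_
    · exact Finset.mem_filter.2 ⟨Finset.mem_univ _,
        hcol p p' (hp'.trans (Finset.mem_filter.1 hp'').2.symm)⟩
    · rw [← Fintype.card_subtype, ← Nat.card_eq_fintype_card]
      refine Nat.card_le_card_of_injective
        (fun z => (⟨z.2.choose, z.2.choose_spec.1⟩ : T0)) fun z y e => ?_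
      have ee : z.2.choose = y.2.choose := congrArg Subtype.val e
      exact Subtype.ext (Subtype.ext (by rw [z.2.choose_spec.2, y.2.choose_spec.2, ee]))
  have hle : Fintype.card D ≤ Fintype.card F - 1 := by
    rw [← Finset.card_univ, Finset.card_eq_sum_card_fiberwise (t := (Finset.univ : Finset (Fˣ ⧸ T0)))
      (f := fun p : D => (QuotientGroup.mk (f p) : Fˣ ⧸ T0)) fun _ _ => Finset.mem_univ _]
    refine le_trans (Finset.sum_le_sum fun c _ => hfib c) ?_
    rw [Finset.sum_const, smul_eq_mul, Finset.card_univ, ← Nat.card_eq_fintype_card,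
      ← T0.card_eq_card_quotient_mul_card_subgroup, Nat.card_units, Nat.card_eq_fintype_card]
  have hD : Fintype.card D = (2 ^ n) ^ 3 - 1 := by
    rw [Fintype.card_subtype_compl, Fintype.card_subtype_eq, ← Nat.card_eq_fintype_card, card_pairs hF]
  rw [hD, hF] at hle
  have h4 : (2 ^ n) ^ 2 < (2 ^ n) ^ 3 :=
    Nat.pow_lt_pow_right (Nat.one_lt_two_pow (by omega)) (by norm_num)
  have h5 : 0 < (2 ^ n) ^ 2 := pow_pos (Nat.two_pow_pos n) 2
  omega

/-- The consequence of binarity for two translations differing by an element of `H`. -/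
theorem key_pair (hB : Bin H) (hfix : ∀ g ∈ H, g • ∞₀ = ∞₀) (hZ : Zc hF hx ≤ H)
    (hQ : fstGrp hF hx H ≠ ⊤) {a c : F} (hc : c ∈ fstGrp hF hx H) {e : Fˣ}
    (he : sg n e * a ∈ fstGrp hF hx H) :
    ∃ s, s + a ∈ fstGrp hF hx H ∧ (∀ l, sg n l * a ∈ fstGrp hF hx H → sg n l * s ∈ fstGrp hF hx H) ∧
      ∀ l, sg n l * (a + c) ∈ fstGrp hF hx H → sg n l * s ∈ fstGrp hF hx H := by
  obtain ⟨pa, hpa⟩ := exists_pair hF a
  obtain ⟨pc, hpc⟩ := exists_pair hF c
  set A := tl hF hx pa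
  set B := tl hF hx (padd hF pa pc) with hBdef
  obtain ⟨g, g1, g2, g3⟩ := hB.key A B 1 (by
    rw [inv_one, one_mul, mul_one, hBdef, ← tl_mul, mul_inv_rev,
      show (tl hF hx pc)⁻¹ * A⁻¹ * A = (tl hF hx pc)⁻¹ by group]
    exact H.inv_mem (tl_mem_of_fst hF hx hZ (hpc ▸ hc)))
  rw [inv_one, one_mul, mul_one] at g3
  have hg0 : g • ∞₀ = ∞₀ := by
    have := hfix _ g3
    rw [mul_smul, tl_none, inv_smul_eq_iff] at this
    exact this.symm
  obtain ⟨s, m, rfl⟩ := eq_of_fix hF hx hg0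
  have hcoord : ∀ (p : Pairs F (2 ^ n)), InS H (tl hF hx p) (tl hF hx s * dl hF hx m) →
      ∀ l, sg n l * p.1.1 ∈ fstGrp hF hx H → ∀ t : F, ∃ r : Pairs F (2 ^ n),
        r.1.1 = sg n l * (t + s.1.1 + sg n m * t) ∧ tl hF hx r * dl hF hx m ∈ H := by
    intro p hS l hl t
    obtain ⟨y, hy⟩ := exists_pair hF t
    obtain ⟨r0, hr01, hr0⟩ := borel_conj hF hx y p 1
    obtain ⟨r, hr1, hr⟩ := borel_conj hF hx y s m
    rw [dl_one, mul_one, mul_one] at hr0
    have hkey : ∀ k : Grp hF hx, (tl hF hx y * (dl hF hx l)⁻¹)⁻¹ * k * (tl hF hx y * (dl hF hx l)⁻¹) =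
        dl hF hx l * ((tl hF hx y)⁻¹ * k * tl hF hx y) * (dl hF hx l)⁻¹ := fun k => by group
    have h := hS (tl hF hx y * (dl hF hx l)⁻¹) (by
      rw [hkey, hr0, dl_conj]
      refine tl_mem_of_fst hF hx hZ ?_
      show sg n l * r0.1.1 ∈ _
      rw [hr01, sg_one, one_mul, show y.1.1 + p.1.1 + y.1.1 = p.1.1 by
        linear_combination add_self hF y.1.1]
      exact hl)
    rw [hkey, hr] at h
    refine ⟨tau hF l r, by show sg n l * r.1.1 = _; rw [hr1, hy], ?_⟩
    rwa [show dl hF hx l * (tl hF hx r * dl hF hx m) * (dl hF hx l)⁻¹ =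
        dl hF hx l * tl hF hx r * (dl hF hx l)⁻¹ * (dl hF hx l * dl hF hx m * (dl hF hx l)⁻¹) by group,
      dl_conj, dl_mul hF hx l m, dl_inv, dl_mul, mul_inv_cancel_comm] at h
  have hm : sg n m = 1 := by
    by_contra hm
    refine hQ ((AddSubgroup.eq_top_iff' _).2 fun v => ?_)
    have h1m : sg n e * (1 + sg n m) ≠ 0 := mul_ne_zero (sg_ne_zero e)
      fun z => hm (by linear_combination z - add_self hF (1 : F))
    obtain ⟨r1, hr11, hr1⟩ := hcoord pa g1 e (hpa.symm ▸ he) (v / (sg n e * (1 + sg n m)))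
    obtain ⟨r2, hr21, hr2⟩ := hcoord pa g1 e (hpa.symm ▸ he) 0
    have h3 := H.mul_mem hr1 (H.inv_mem hr2)
    rw [show tl hF hx r1 * dl hF hx m * (tl hF hx r2 * dl hF hx m)⁻¹ =
      tl hF hx r1 * (tl hF hx r2)⁻¹ by group, tl_inv, tl_mul] at h3
    refine ⟨_, ?_, h3⟩
    show r1.1.1 + r2.1.1 = v
    rw [hr11, hr21]
    have e3 := div_mul_cancel₀ v h1m
    linear_combination e3 + add_self hF (sg n e * s.1.1)
  have hscale : ∀ (p : Pairs F (2 ^ n)), InS H (tl hF hx p) (tl hF hx s * dl hF hx m) →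
      ∀ l, sg n l * p.1.1 ∈ fstGrp hF hx H → sg n l * s.1.1 ∈ fstGrp hF hx H := by
    intro p hS l hl
    obtain ⟨r, hr1, hr⟩ := hcoord p hS l hl 0
    have := fst_mem_of_borel hF hx hr hm
    rwa [hr1, zero_add, mul_zero, add_zero] at this
  refine ⟨s.1.1, ?_, hpa ▸ hscale pa g1, ?_⟩
  · rw [(dl_eq_one_iff hF hx m).2 hm, mul_one, tl_inv, tl_mul] at g3
    exact ⟨_, by simp [padd, pinv, hpa], g3⟩
  · intro l hl
    exact hscale _ g2 l (by simpa [padd, hpa, hpc] using hl)

section Field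
include hF

/-- The field is spanned over the subfield by any two independent elements. -/
theorem exists_coords {c d : F} (hc : c ≠ 0) (hd : (d / c) ^ 2 ^ n ≠ d / c) (f : F) :
    ∃ α β : F, α ^ 2 ^ n = α ∧ β ^ 2 ^ n = β ∧ f = α * c + β * d := by
  have h2 := two_eq_zero hF
  set u := d / c with hu
  set g := f / c with hg
  have hu0 : u + u ^ 2 ^ n ≠ 0 := fun e => hd ((trace_zero_iff hF).1 e)
  have huf : (u + u ^ 2 ^ n) ^ 2 ^ n = u + u ^ 2 ^ n := by rw [add_pow_q hF, pow_q_q hF, add_comm]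
  have hgf : (g + g ^ 2 ^ n) ^ 2 ^ n = g + g ^ 2 ^ n := by rw [add_pow_q hF, pow_q_q hF, add_comm]
  set β := (g + g ^ 2 ^ n) / (u + u ^ 2 ^ n) with hβ
  have hβf : β ^ 2 ^ n = β := by rw [hβ, div_pow, huf, hgf]
  have hβu := div_mul_cancel₀ (g + g ^ 2 ^ n) hu0
  rw [← hβ] at hβu
  refine ⟨g + β * u, β, ?_, hβf, ?_⟩
  · rw [add_pow_q hF, mul_pow, hβf]
    linear_combination hβu + (g ^ 2 ^ n - β * u) * h2
  · rw [hg, hu, add_mul, div_mul_cancel₀ f hc, mul_assoc, div_mul_cancel₀ d hc]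
    linear_combination -(β * d) * h2

/-- The torus multipliers meet at least three lines over the subfield. -/
theorem exists_two_sg (hn : 2 ≤ n) :
    ∃ (l m : Fˣ) (r : F), r ^ 2 ^ n = r ∧ r ≠ 0 ∧ sg n l ^ 2 ^ n ≠ sg n l ∧ sg n m = sg n l + r := by
  classical
  let σ : Fˣ →* F :=
    { toFun := sg n
      map_one' := sg_one
      map_mul' := sg_mul }
  set N := 2 ^ n with hN
  have hN4 : 4 ≤ N := le_trans (by norm_num) (Nat.pow_le_pow_right two_pos hn : 2 ^ 2 ≤ 2 ^ n)
  have hker : ∀ l : Fˣ, sg n l = 1 → (l : F) ^ 3 = 1 ∧ (n = 2 → l = 1) := by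
    intro l hl
    have h0 : (l : F) ≠ 0 := l.ne_zero
    have h1 : (l : F) ^ N * (l : F) ^ N = l := by
      rw [sg, div_eq_one_iff_eq h0] at hl; exact hl
    have h2 : (l : F) * l = (l : F) ^ N := by
      have := congrArg (fun y : F => y ^ N) h1
      simp only [mul_pow, pow_q_q hF] at this
      exact this
    refine ⟨mul_right_cancel₀ h0 ?_, fun hn2 => Units.ext ?_⟩
    · rw [← h2] at h1; linear_combination h1
    · have h4 : N = 4 := by rw [hN, hn2]; rfl
      rw [h4] at h1 h2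
      rw [← h2] at h1
      have h5 : (l : F) * l = (l : F) * 1 := by
        calc (l : F) * l = (l : F) ^ 4 := h2
          _ = (l : F) * 1 := by rw [mul_one]; linear_combination h1
      exact mul_left_cancel₀ h0 h5
  set S := Finset.univ.image σ with hS
  have hbig : 2 * (N - 1) < S.card := by
    have h1 : Fintype.card Fˣ ≤ (if n = 2 then 1 else 3) * S.card := by
      rw [← Finset.card_univ, mul_comm]
      refine le_trans (Finset.card_le_mul_card_image (f := σ) Finset.univ (if n = 2 then 1 else 3)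
        fun y hy => ?_) (le_of_eq (mul_comm _ _))
      obtain ⟨l0, -, rfl⟩ := Finset.mem_image.1 hy
      have hsub : ∀ z ∈ Finset.univ.filter (fun z => σ z = σ l0),
          sg n (z * l0⁻¹) = 1 := fun z hz => by
        have he : sg n z = sg n l0 := (Finset.mem_filter.1 hz).2
        rw [sg_mul, sg_inv, he, mul_inv_cancel₀ (sg_ne_zero l0)]
      split_ifs with hn2
      · refine Finset.card_le_one.2 fun z hz z' hz' => ?_
        exact mul_right_cancel (((hker _ (hsub z hz)).2 hn2).trans ((hker _ (hsub z' hz')).2 hn2).symm)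
      · refine le_trans (Finset.card_le_card_of_injOn (fun z : Fˣ => ((z * l0⁻¹ : Fˣ) : F))
          (t := (Polynomial.nthRoots 3 (1 : F)).toFinset) (fun z hz => ?_) fun z _ z' _ e => ?_)
          ((Multiset.toFinset_card_le _).trans (Polynomial.card_nthRoots 3 1))
        · rw [Finset.mem_coe, Multiset.mem_toFinset, Polynomial.mem_nthRoots (by norm_num)]
          exact (hker _ (hsub z hz)).1
        · exact mul_right_cancel (Units.ext e)
    rw [← Nat.card_eq_fintype_card, Nat.card_units, Nat.card_eq_fintype_card, hF] at h1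
    have hsq : N ^ 2 - 1 = (N - 1) * (N + 1) := by rw [mul_comm, ← Nat.sq_sub_sq, one_pow]
    rw [hsq] at h1
    by_contra hcon
    push Not at hcon
    split_ifs at h1 with hn2
    · have hN' : N = 4 := by rw [hN, hn2]; rfl
      rw [hN'] at h1 hcon
      omega
    · have h8 : 8 ≤ N := le_trans (by norm_num) (Nat.pow_le_pow_right two_pos (by omega) : 2 ^ 3 ≤ 2 ^ n)
      have h9 : 9 * (N - 1) ≤ (N - 1) * (N + 1) := by
        rw [mul_comm 9]; exact Nat.mul_le_mul_left _ (by omega)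
      omega
  let R := Finset.univ.filter fun r : F => r ^ N = r ∧ r ≠ 0
  have hR : R.card = N - 1 := by
    have h1 := card_fixed hF (F := F)
    rw [Nat.card_eq_fintype_card, Fintype.card_subtype] at h1
    rw [show R = (Finset.univ.filter fun r : F => r ^ N = r).erase 0 by ext r; simp [R, and_comm],
      Finset.card_erase_of_mem (by simp [hN, zero_pow_q hF]), h1]
  obtain ⟨l, hl⟩ : ∃ l : Fˣ, sg n l ^ N ≠ sg n l := by
    by_contra hall
    push Not at hall
    have : S.card ≤ R.card := Finset.card_le_card fun y hy => by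
      obtain ⟨l, -, rfl⟩ := Finset.mem_image.1 hy
      exact Finset.mem_filter.2 ⟨Finset.mem_univ _, hall l, sg_ne_zero l⟩
    omega
  have hl0 := sg_ne_zero (n := n) l
  obtain ⟨m, hm1, hm2⟩ : ∃ m : Fˣ, sg n m ^ N ≠ sg n m ∧
      (sg n m / sg n l) ^ N ≠ sg n m / sg n l := by
    by_contra hall
    push Not at hall
    have hsub : S ⊆ R ∪ R.image (fun r => r * sg n l) := fun y hy => by
      obtain ⟨m, -, rfl⟩ := Finset.mem_image.1 hy
      by_cases hm : sg n m ^ N = sg n m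
      · exact Finset.mem_union_left _ (Finset.mem_filter.2 ⟨Finset.mem_univ _, hm, sg_ne_zero m⟩)
      · refine Finset.mem_union_right _ (Finset.mem_image.2 ⟨sg n m / sg n l, Finset.mem_filter.2
          ⟨Finset.mem_univ _, hall m hm, div_ne_zero (sg_ne_zero m) hl0⟩, div_mul_cancel₀ _ hl0⟩)
    have := (Finset.card_le_card hsub).trans (Finset.card_union_le _ _)
    have := Finset.card_image_le (s := R) (f := fun r : F => r * sg n l)
    omega
  obtain ⟨α, β, hα, hβ, he⟩ := exists_coords hF one_ne_zero (d := sg n l)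
    (by rwa [div_one]) (sg n m)
  have hβ0 : β ≠ 0 := fun z => hm1 (by rw [he, z, zero_mul, add_zero, mul_one, hα])
  have hα0 : α ≠ 0 := fun z => hm2 (by
    rw [he, z, zero_mul, zero_add, mul_div_assoc, div_self hl0, mul_one, hβ])
  refine ⟨l, (Units.mk0 β hβ0)⁻¹ * m, α / β, by rw [div_pow, hα, hβ], div_ne_zero hα0 hβ0, hl, ?_⟩
  rw [sg_mul, sg_inv, sg_fixed hF (Units.mk0 β hβ0) hβ, Units.val_mk0, he]
  field_simp
  ring

end Field

/-- An intermediate translation group: not binary. -/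
theorem not_bin_partial (hn : 2 ≤ n) (hfix : ∀ g ∈ H, g • ∞₀ = ∞₀) (hZ : Zc hF hx ≤ H)
    (hQ : fstGrp hF hx H ≠ ⊤) (hQ0 : fstGrp hF hx H ≠ ⊥) : ¬ Bin H := by
  classical
  intro hB
  set Q := fstGrp hF hx H with hQdef
  have h2 := two_eq_zero hF
  let L : F → Finset F := fun y => Finset.univ.filter fun r => r ^ 2 ^ n = r ∧ r * y ∈ Q
  have hmemL : ∀ y r, r ∈ L y ↔ r ^ 2 ^ n = r ∧ r * y ∈ Q := fun y r => by simp [L]
  have hscale : ∀ t : F, t ^ 2 ^ n = t → t ≠ 0 → ∀ y, (L (t * y)).card = (L y).card := by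
    intro t ht ht0 y
    refine Finset.card_bij (fun r _ => r * t) (fun r hr => ?_) (fun r _ r' _ e => mul_right_cancel₀ ht0 e)
      fun r hr => ⟨r / t, ?_, div_mul_cancel₀ r ht0⟩
    · rw [hmemL] at hr ⊢
      exact ⟨by rw [mul_pow, hr.1, ht], by rw [mul_assoc]; exact hr.2⟩
    · rw [hmemL] at hr ⊢
      exact ⟨by rw [div_pow, hr.1, ht], by rw [← mul_assoc, div_mul_cancel₀ r ht0]; exact hr.2⟩
  obtain ⟨z, hz⟩ : ∃ z, z ∉ Q := by
    by_contra hall
    push Not at hall
    exact hQ ((AddSubgroup.eq_top_iff' _).2 hall)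
  obtain ⟨a, ha, hmax⟩ := Finset.exists_max_image (Finset.univ.filter fun y => y ∉ Q)
    (fun y => (L y).card) ⟨z, by simp [hz]⟩
  simp only [Finset.mem_filter, Finset.mem_univ, true_and] at ha hmax
  by_cases hr : ∃ r : F, r ^ 2 ^ n = r ∧ r ≠ 0 ∧ r * a ∈ Q
  · obtain ⟨r, hr, hr0, hra⟩ := hr
    obtain ⟨s, hs, h1, h2'⟩ := key_pair hF hx hB hfix hZ hQ (a := a) (c := r * a) hra
      (e := Units.mk0 r hr0) (by rw [sg_fixed hF (Units.mk0 r hr0) hr]; exact hra)
    have hsub : ∀ y, (∀ l, sg n l * y ∈ Q → sg n l * s ∈ Q) → L y ⊆ L s := by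
      intro y hy l hl
      rw [hmemL] at hl ⊢
      refine ⟨hl.1, ?_⟩
      by_cases hl0 : l = 0
      · rw [hl0, zero_mul]; exact Q.zero_mem
      have := hy (Units.mk0 l hl0)
      rw [sg_fixed hF (Units.mk0 l hl0) hl.1] at this
      exact this hl.2
    have hr1 : 1 + r ≠ 0 := fun e => ha (by
      rwa [show r = 1 by linear_combination e - h2, one_mul] at hra)
    have hsQ : s ∉ Q := fun h => ha (by
      have := Q.sub_mem hs h; rwa [add_sub_cancel_left] at this)
    have e1 : L a = L s := Finset.eq_of_subset_of_card_le (hsub a h1) (hmax s hsQ)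
    have e2 : L (a + r * a) = L a := by
      rw [e1]
      refine Finset.eq_of_subset_of_card_le (hsub _ h2') (le_of_eq ?_)
      rw [← e1, show a + r * a = (1 + r) * a by ring, hscale _ (by rw [add_pow_q hF, one_pow, hr]) hr1]
    have e3 : L a = L (r * a) := by
      refine Finset.eq_of_subset_of_card_le (fun l hl => ?_) (le_of_eq (hscale r hr hr0 a))
      have hl' : l ∈ L (a + r * a) := e2.symm ▸ hl
      rw [hmemL] at hl hl' ⊢
      refine ⟨hl.1, ?_⟩
      have := Q.sub_mem hl'.2 hl.2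
      rwa [mul_add, add_sub_cancel_left] at this
    have h1a : (1 : F) ∈ L (r * a) := (hmemL _ _).2 ⟨one_pow _, by rwa [one_mul]⟩
    rw [← e3, hmemL, one_mul] at h1a
    exact ha h1a.2
  · push Not at hr
    have hLa : L a = {0} := by
      ext r
      rw [hmemL, Finset.mem_singleton]
      refine ⟨fun h => by_contra fun h0 => hr r h.1 h0 h.2, fun h => ?_⟩
      rw [h, zero_mul]
      exact ⟨zero_pow_q hF, Q.zero_mem⟩
    have hline : ∀ y r : F, r ^ 2 ^ n = r → r * y ∈ Q → r ≠ 0 → y ∈ Q := by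
      intro y r hr hry hr0
      by_contra hy
      have hle := hmax y hy
      rw [hLa, Finset.card_singleton, Finset.card_le_one] at hle
      exact hr0 (hle r ((hmemL _ _).2 ⟨hr, hry⟩) 0
        ((hmemL _ _).2 ⟨zero_pow_q hF, by rw [zero_mul]; exact Q.zero_mem⟩))
    have hinv : ∀ y r : F, r ^ 2 ^ n = r → y ∈ Q → r * y ∈ Q := by
      intro y r hr hy
      by_cases hr0 : r = 0
      · rw [hr0, zero_mul]; exact Q.zero_mem
      exact hline _ r⁻¹ (by rw [inv_pow, hr]) (by rwa [inv_mul_cancel_left₀ hr0]) (inv_ne_zero hr0)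
    obtain ⟨c, hc, hc0⟩ : ∃ c ∈ Q, c ≠ 0 := by
      by_contra hall
      push Not at hall
      exact hQ0 ((AddSubgroup.eq_bot_iff_forall _).2 hall)
    have hQc : ∀ d ∈ Q, ∃ β : F, β ^ 2 ^ n = β ∧ d = β * c := by
      intro d hd
      refine ⟨d / c, by_contra fun hdc => hQ ((AddSubgroup.eq_top_iff' _).2 fun v => ?_),
        (div_mul_cancel₀ d hc0).symm⟩
      obtain ⟨α, β, hα, hβ, rfl⟩ := exists_coords hF hc0 hdc v
      exact Q.add_mem (hinv c α hα hc) (hinv d β hβ hd)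
    obtain ⟨l, m, r, hr, hr0, hl, hm⟩ := exists_two_sg hF hn
    obtain ⟨s, hs, h1, h2'⟩ := key_pair hF hx hB hfix hZ hQ (a := sg n l * c) (c := r * c)
      (hinv c r hr hc) (e := l⁻¹) (by rwa [sg_inv, inv_mul_cancel_left₀ (sg_ne_zero l)])
    obtain ⟨α, hα, hsα⟩ := hQc _ (h1 l⁻¹ (by rwa [sg_inv, inv_mul_cancel_left₀ (sg_ne_zero l)]))
    obtain ⟨β, hβ, hsβ⟩ := hQc _ (h2' m⁻¹ (by
      rwa [← add_mul, ← hm, sg_inv, inv_mul_cancel_left₀ (sg_ne_zero m)]))
    rw [sg_inv, inv_mul_eq_iff_eq_mul₀ (sg_ne_zero l)] at hsα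
    rw [sg_inv, inv_mul_eq_iff_eq_mul₀ (sg_ne_zero m)] at hsβ
    have he : sg n l * (α - β) = r * β := mul_right_cancel₀ hc0 (by
      rw [hm] at hsβ; linear_combination hsβ - hsα)
    have hab : α - β = 0 := by
      by_contra h0
      refine hl ?_
      rw [eq_div_of_mul_eq h0 he, div_pow, mul_pow, hr, hβ, sub_pow_q hF, hα, hβ]
    have hβ0 : β = 0 := by
      rw [hab, mul_zero, eq_comm, mul_eq_zero] at he
      exact he.resolve_left hr0
    rw [hβ0, zero_mul, mul_zero] at hsβ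
    rw [hsβ, zero_add] at hs
    obtain ⟨γ, hγ, hγc⟩ := hQc _ hs
    exact hl (by rw [mul_right_cancel₀ hc0 hγc, hγ])

end Cfsg.Agent.Lib.Binary95.U3
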