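import Cfsg.Agent.Lib.Binary95.U3Model
import Cfsg.Agent.Lib.SzBinary56.Main

/-!
# `PSU₃(q)`, `q` even: the centre of a Sylow `2`-subgroup has a binary coset action
-/

set_option autoImplicit false
set_option linter.unusedSectionVars false
set_option linter.style.haveILetI false

namespace Cfsg.Agent.Lib.Binary95.U3

open scoped Pointwise
open MulAction Cfsg.Agent.Lib.Unitary Cfsg.Agent.Lib.U3Sylow Cfsg.Agent.Lib.SzBinary56

variable {F : Type*} [Field F] [Fintype F] {n : ℕ}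
variable (hF : Fintype.card F = (2 ^ n) ^ 2) {x : F} (hx : x + x ^ 2 ^ n = 1)

local notation "∞₀" => (none : Option (Pairs F (2 ^ n)))

section Ops
include hF

theorem padd_cp_left (z : F) (hz : z ^ 2 ^ n = z) (p : Pairs F (2 ^ n)) :
    (padd hF (cp hF z hz) p).1 = (p.1.1, z + p.1.2) := by
  simp [padd, cp, zero_pow_q hF]

theorem padd_cp_comm (z : F) (hz : z ^ 2 ^ n = z) (p : Pairs F (2 ^ n)) :
    padd hF (cp hF z hz) p = padd hF p (cp hF z hz) := by
  refine Subtype.ext ?_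
  rw [padd_cp_left]
  simp [padd, cp, add_comm]

theorem pow_bar_inj {y z : F} (h : y ^ 2 ^ n = z ^ 2 ^ n) : y = z := by
  rw [← pow_q_q hF y, h, pow_q_q hF]

end Ops

/-- The central root group. -/
noncomputable def Zc : Subgroup (Grp hF hx) where
  carrier := {g | ∃ p : Pairs F (2 ^ n), p.1.1 = 0 ∧ g = tl hF hx p}
  one_mem' := ⟨zp hF, rfl, (tl_zero hF hx).symm⟩
  mul_mem' := by
    rintro _ _ ⟨p, hp, rfl⟩ ⟨r, hr, rfl⟩
    exact ⟨padd hF p r, by simp [padd, hp, hr], tl_mul hF hx p r⟩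
  inv_mem' := by
    rintro _ ⟨p, hp, rfl⟩
    exact ⟨pinv hF p, hp, tl_inv hF hx p⟩

/-- The translations form a subgroup. -/
noncomputable def Un : Subgroup (Grp hF hx) where
  carrier := {g | ∃ p : Pairs F (2 ^ n), g = tl hF hx p}
  one_mem' := ⟨zp hF, (tl_zero hF hx).symm⟩
  mul_mem' := by
    rintro _ _ ⟨p, rfl⟩ ⟨r, rfl⟩
    exact ⟨padd hF p r, tl_mul hF hx p r⟩
  inv_mem' := by
    rintro _ ⟨p, rfl⟩
    exact ⟨pinv hF p, tl_inv hF hx p⟩

theorem mem_Zc {g : Grp hF hx} :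
    g ∈ Zc hF hx ↔ ∃ p : Pairs F (2 ^ n), p.1.1 = 0 ∧ g = tl hF hx p := Iff.rfl

theorem cp_mem_Zc (z : F) (hz : z ^ 2 ^ n = z) : tl hF hx (cp hF z hz) ∈ Zc hF hx := ⟨_, rfl, rfl⟩

theorem Zc_comm (p : Pairs F (2 ^ n)) {g : Grp hF hx} (hg : g ∈ Zc hF hx) :
    g * tl hF hx p = tl hF hx p * g := by
  obtain ⟨r, hr, rfl⟩ := hg
  rw [eq_cp hF hr, tl_mul, tl_mul, padd_cp_comm]

/-- The Borel subgroup normalises the central root group. -/
theorem Zc_conj {g k : Grp hF hx} (hk : k • ∞₀ = ∞₀) (hg : g ∈ Zc hF hx) :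
    k * g * k⁻¹ ∈ Zc hF hx := by
  obtain ⟨p, l, rfl⟩ := eq_of_fix hF hx hk
  obtain ⟨r, hr, rfl⟩ := hg
  have h1 : dl hF hx l * tl hF hx r * (dl hF hx l)⁻¹ ∈ Zc hF hx :=
    ⟨tau hF l r, by simp [tau, hr], dl_conj hF hx l r⟩
  have h2 := Zc_comm hF hx p h1
  rw [show tl hF hx p * dl hF hx l * tl hF hx r * (tl hF hx p * dl hF hx l)⁻¹ =
    tl hF hx p * (dl hF hx l * tl hF hx r * (dl hF hx l)⁻¹) * (tl hF hx p)⁻¹ by group, ← h2,
    mul_inv_cancel_right]
  exact h1

theorem Zc_sq {g : Grp hF hx} (hg : g ∈ Zc hF hx) : g * g = 1 := by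
  obtain ⟨p, hp, rfl⟩ := hg
  rw [tl_mul, ← tl_zero hF hx]
  congr 1
  refine Subtype.ext (Prod.ext (by simp [padd, zp, cp, hp]) ?_)
  simp [padd, zp, cp, hp, zero_pow_q hF, add_self hF]

theorem Zc_fix_only {g : Grp hF hx} (hg : g ∈ Zc hF hx) (hg1 : g ≠ 1)
    {o : Option (Pairs F (2 ^ n))} (ho : g • o = o) : o = ∞₀ := by
  rcases o with _ | r
  · rfl
  exfalso
  obtain ⟨p, hp, rfl⟩ := hg
  have hz : p.1.2 ≠ 0 := snd_ne_zero hF fun e => hg1 (by rw [e, tl_zero])
  rw [eq_cp hF hp, tl_some] at ho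
  have h2 := congrArg Prod.snd (congrArg Subtype.val (Option.some.inj ho))
  rw [padd_cp_left] at h2
  exact hz (add_eq_right.1 h2)

/-- The only fixed point of a non-trivial element of a conjugate of the central root group. -/
theorem conj_fix_only {u g : Grp hF hx} (hg : u⁻¹ * g * u ∈ Zc hF hx) (hg1 : g ≠ 1) :
    g • (u • ∞₀) = u • ∞₀ ∧ ∀ o, g • o = o → o = u • ∞₀ := by
  obtain ⟨p, hp, he⟩ := hg
  have hge : g = u * tl hF hx p * u⁻¹ := by rw [← he]; group
  refine ⟨by rw [hge, mul_smul, mul_smul, inv_smul_smul, tl_none], fun o ho => ?_⟩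
  have h1 : u⁻¹ • o = ∞₀ := by
    refine Zc_fix_only hF hx (g := u⁻¹ * g * u) (he ▸ ⟨p, hp, rfl⟩) (fun e => hg1 ?_) ?_
    · calc g = u * (u⁻¹ * g * u) * u⁻¹ := by group
        _ = 1 := by rw [e]; group
    · rw [mul_smul, mul_smul, smul_inv_smul, ho]
  rw [← h1, smul_inv_smul]

theorem conj_of_point {u w g : Grp hF hx} (hg : u⁻¹ * g * u ∈ Zc hF hx)
    (heq : u • ∞₀ = w • ∞₀) : w⁻¹ * g * w ∈ Zc hF hx := by
  have := Zc_conj hF hx (k := w⁻¹ * u) (by rw [mul_smul, heq, inv_smul_smul]) hg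
  rwa [show w⁻¹ * u * (u⁻¹ * g * u) * (w⁻¹ * u)⁻¹ = w⁻¹ * g * w by group] at this

/-- The action on the cosets of the central root group is binary. -/
theorem bin_centre : Bin (Zc hF hx) := by
  have hinv : ∀ {u g : Grp hF hx}, u⁻¹ * g * u ∈ Zc hF hx → g * g = 1 := fun {u g} hg => by
    have := Zc_sq hF hx hg
    rw [show u⁻¹ * g * u * (u⁻¹ * g * u) = u⁻¹ * (g * g) * u by group] at this
    calc g * g = u * (u⁻¹ * (g * g) * u) * u⁻¹ := by group
      _ = 1 := by rw [this]; group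
  refine bin_of_tri _ (fun u v => ?_) fun u v w g k hgk hg hk hc => ?_
  · by_cases huv : u • ∞₀ = v • ∞₀
    · exact Or.inl fun g hg => conj_of_point hF hx hg huv
    · refine Or.inr fun g hg hg' => ?_
      by_contra hg1
      exact huv ((conj_fix_only hF hx hg' hg1).2 _ (conj_fix_only hF hx hg hg1).1)
  · by_cases hg1 : g = 1
    · left; rw [hg1, mul_one, inv_mul_cancel]; exact one_mem _
    by_cases hk1 : k = 1
    · right; rw [hk1, mul_one, inv_mul_cancel]; exact one_mem _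
    left
    obtain ⟨gu, gonly⟩ := conj_fix_only hF hx hg hg1
    obtain ⟨-, konly⟩ := conj_fix_only hF hx hk hk1
    obtain ⟨-, conly⟩ := conj_fix_only hF hx hc (fun e => hgk (inv_mul_eq_one.1 e).symm)
    have hki : k⁻¹ = k := inv_eq_of_mul_eq_one_right (hinv hk)
    have hgi : g⁻¹ = g := inv_eq_of_mul_eq_one_right (hinv hg)
    have hcomm : g * k = k * g := by
      have := inv_eq_of_mul_eq_one_right (hinv hc)
      rw [mul_inv_rev, inv_inv, hki, hgi] at this
      exact this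
    have hku : k • (u • ∞₀) = u • ∞₀ :=
      gonly _ (by rw [← mul_smul, hcomm, mul_smul, gu])
    refine conj_of_point hF hx hg (conly _ ?_)
    rw [mul_smul, gu, inv_smul_eq_iff, hku]

/-- Elements of two-power order fixing `none` are translations. -/
theorem mem_Un_of_pow {g : Grp hF hx} (h0 : g • ∞₀ = ∞₀) {k : ℕ} (hk : g ^ 2 ^ k = 1) :
    g ∈ Un hF hx := by
  obtain ⟨p, l, rfl⟩ := eq_of_fix hF hx h0
  have hpow : ∀ j : ℕ, ∃ r, (tl hF hx p * dl hF hx l) ^ j = tl hF hx r * dl hF hx (l ^ j) := by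
    intro j
    induction j with
    | zero => exact ⟨zp hF, by rw [pow_zero, pow_zero, tl_zero, dl_one, one_mul]⟩
    | succ j ih =>
      obtain ⟨r, hr⟩ := ih
      refine ⟨padd hF r (tau hF (l ^ j) p), ?_⟩
      rw [pow_succ, hr, ← tl_mul, pow_succ l, ← dl_mul, ← dl_conj hF hx (l ^ j) p]
      group
  obtain ⟨r, hr⟩ := hpow (2 ^ k)
  rw [hk, show (1 : Grp hF hx) = tl hF hx (zp hF) * dl hF hx 1 by rw [tl_zero, dl_one, one_mul]] at hr
  have h1 := (borel_inj hF hx hr).2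
  rw [sg_one] at h1
  haveI := charP_two hF
  haveI : Fact (Nat.Prime 2) := ⟨Nat.prime_two⟩
  have hpw : ∀ j : ℕ, sg n (l ^ j) = sg n l ^ j := fun j => by
    induction j with
    | zero => rw [pow_zero, pow_zero, sg_one]
    | succ j ih => rw [pow_succ, sg_mul, ih, pow_succ]
  have hs : sg n l = 1 := by
    refine (iterateFrobenius F 2 k).injective ?_
    rw [iterateFrobenius_def, iterateFrobenius_def, one_pow, ← hpw, ← h1]
  exact ⟨p, by rw [(dl_eq_one_iff hF hx l).2 hs, mul_one]⟩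

/-- A two-group fixes a point. -/
theorem exists_fix {K : Subgroup (Grp hF hx)} (hK : IsPGroup 2 K) :
    ∃ o : Option (Pairs F (2 ^ n)), ∀ g ∈ K, g • o = o := by
  haveI : Fact (Nat.Prime 2) := ⟨Nat.prime_two⟩
  have hc : ¬ 2 ∣ Nat.card (Option (Pairs F (2 ^ n))) := by
    rw [Finite.card_option, card_pairs hF]
    have : 2 ∣ (2 ^ n) ^ 3 := dvd_pow (dvd_pow_self 2 (pos_n hF).ne') (by norm_num)
    omega
  obtain ⟨o, ho⟩ := hK.nonempty_fixed_point_of_prime_not_dvd_card (Option (Pairs F (2 ^ n))) hc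
  exact ⟨o, fun g hg => ho ⟨g, hg⟩⟩

theorem isPGroup_Un : IsPGroup 2 (Un hF hx) := by
  rintro ⟨_, p, rfl⟩
  refine ⟨2, Subtype.ext ?_⟩
  show tl hF hx p ^ (2 ^ 2) = 1
  have hz : padd hF p p ∈ {r : Pairs F (2 ^ n) | r.1.1 = 0} := by simp [padd, add_self hF]
  have := Zc_sq hF hx (g := tl hF hx p * tl hF hx p) ⟨_, hz, tl_mul hF hx p p⟩
  rw [← pow_two, ← pow_two, ← pow_mul] at this
  exact this

/-- The conjugates of the translation group are the Sylow two-subgroups. -/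
theorem sylow_conj (P : Sylow 2 (Grp hF hx)) :
    ∃ u : Grp hF hx, (P : Subgroup (Grp hF hx)) = (Un hF hx).map (MulAut.conj u).toMonoidHom := by
  haveI : Fact (Nat.Prime 2) := ⟨Nat.prime_two⟩
  obtain ⟨o, ho⟩ := exists_fix hF hx P.2
  obtain ⟨u, hu⟩ := exists_move hF hx o
  refine ⟨u, (P.is_maximal' ((isPGroup_Un hF hx).map _) fun g hg => ?_).symm⟩
  obtain ⟨k, hk⟩ := P.2 ⟨g, hg⟩
  refine ⟨u⁻¹ * g * u, mem_Un_of_pow hF hx (k := k) ?_ ?_, by simp [mul_assoc]⟩
  · rw [mul_smul, mul_smul, hu, ho g hg, ← hu, inv_smul_smul]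
  · have hg' : g ^ 2 ^ k = 1 := by simpa using congrArg Subtype.val hk
    have := conj_pow (i := 2 ^ k) (a := u⁻¹) (b := g)
    rw [inv_inv, hg', mul_one, inv_mul_cancel] at this
    exact this

/-- The centre of the translation group. -/
theorem center_Un : (Subgroup.center (Un hF hx)).map (Un hF hx).subtype = Zc hF hx := by
  ext g
  rw [mem_center_map]
  constructor
  · rintro ⟨⟨p, rfl⟩, hc⟩
    refine ⟨p, ?_, rfl⟩
    obtain ⟨c, hcne⟩ := exists_not_fixed hF
    have hcc : ∀ d : F, p.1.1 ^ 2 ^ n * d = d ^ 2 ^ n * p.1.1 := fun d => by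
      obtain ⟨r, hr⟩ := exists_pair hF d
      have h := hc _ ⟨r, rfl⟩
      rw [tl_mul, tl_mul] at h
      have h2 := congrArg Prod.snd (congrArg Subtype.val (tl_injective hF hx h))
      simp only [padd, hr] at h2
      linear_combination -h2
    have h1 := hcc 1
    rw [mul_one, one_pow, one_mul] at h1
    by_contra h0
    have := hcc c
    rw [h1, mul_comm, mul_left_inj' h0] at this
    exact hcne this.symm
  · intro hg
    obtain ⟨p, hp, rfl⟩ := hg
    refine ⟨⟨p, rfl⟩, ?_⟩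
    rintro _ ⟨r, rfl⟩
    exact (Zc_comm hF hx r ⟨p, hp, rfl⟩).symm

/-- The centres of the Sylow two-subgroups are the conjugates of the central root group. -/
theorem sylow_centre_iff (H : Subgroup (Grp hF hx)) :
    (∃ P : Sylow 2 (Grp hF hx), H = (Subgroup.center (P : Subgroup (Grp hF hx))).map
        (P : Subgroup (Grp hF hx)).subtype) ↔
      ∃ u : Grp hF hx, H = (Zc hF hx).map (MulAut.conj u).toMonoidHom := by
  constructor
  · rintro ⟨P, rfl⟩
    obtain ⟨u, hu⟩ := sylow_conj hF hx P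
    exact ⟨u, by rw [hu, center_map_equiv, center_Un]⟩
  · rintro ⟨u, rfl⟩
    obtain ⟨P⟩ := (inferInstance : Nonempty (Sylow 2 (Grp hF hx)))
    obtain ⟨v, hv⟩ := sylow_conj hF hx P
    refine ⟨(u * v⁻¹) • P, ?_⟩
    rw [Sylow.coe_subgroup_smul, hv,
      show MulAut.conj (u * v⁻¹) • (Un hF hx).map (MulAut.conj v).toMonoidHom =
        ((Un hF hx).map (MulAut.conj v).toMonoidHom).map (MulAut.conj (u * v⁻¹)).toMonoidHom from rfl,
      Subgroup.map_map,
      show ((MulAut.conj (u * v⁻¹)).toMonoidHom.comp (MulAut.conj v).toMonoidHom) =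
        (MulAut.conj u).toMonoidHom from MonoidHom.ext fun y => by simp [mul_assoc],
      center_map_equiv, center_Un]

end Cfsg.Agent.Lib.Binary95.U3
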