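import Cfsg.Agent.Lib.RankOneIdent.PSU3.Model
import Cfsg.Agent.Lib.Unitary.Simple
import Mathlib

/-!
# `PSU₃(q)` for even `q` as a permutation group: translations, torus and Weyl element

`q = 2 ^ n`; the points are `none` and the pairs `(a, b)` with `b + b̄ = a ā`.
-/

set_option autoImplicit false
set_option linter.unusedSectionVars false
set_option linter.style.haveILetI false

namespace Cfsg.Agent.Lib.Binary95.U3

open Matrix Cfsg.Agent.Lib.Unitary Cfsg.Agent.Lib.U3Sylow Cfsg.Agent.Lib.RankOneIdent.PSU3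

variable {F : Type*} [Field F] [Fintype F] {n : ℕ}

/-- The group. -/
noncomputable abbrev Grp (hF : Fintype.card F = (2 ^ n) ^ 2) {x : F} (hx : x + x ^ 2 ^ n = 1) :
    Subgroup (Equiv.Perm (Option (Pairs F (2 ^ n)))) :=
  (Model.pHom hF hx).range

/-- The multiplier of first coordinates. -/
def sg (n : ℕ) (l : Fˣ) : F := (l : F) ^ 2 ^ n * (l : F) ^ 2 ^ n / (l : F)

/-- The multiplier of second coordinates. -/
def nu (n : ℕ) (l : Fˣ) : F := (l : F) * (l : F) ^ 2 ^ n

theorem sg_ne_zero (l : Fˣ) : sg n l ≠ 0 :=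
  div_ne_zero (mul_ne_zero (pow_ne_zero _ l.ne_zero) (pow_ne_zero _ l.ne_zero)) l.ne_zero

theorem sg_mul (l m : Fˣ) : sg n (l * m) = sg n l * sg n m := by
  simp only [sg, Units.val_mul, mul_pow]
  field_simp

theorem sg_one : sg n (1 : Fˣ) = 1 := by simp [sg]

theorem sg_inv (l : Fˣ) : sg n l⁻¹ = (sg n l)⁻¹ := by
  refine eq_inv_of_mul_eq_one_left ?_
  rw [← sg_mul, inv_mul_cancel, sg_one]

variable (hF : Fintype.card F = (2 ^ n) ^ 2)
include hF

theorem add_self (y : F) : y + y = 0 := by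
  haveI := charP_two hF
  exact CharTwo.add_self_eq_zero y

theorem sg_norm (l : Fˣ) : sg n l * sg n l ^ 2 ^ n = nu n l := by
  have h0 : (l : F) ≠ 0 := l.ne_zero
  have h1 : (l : F) ^ 2 ^ n ≠ 0 := pow_ne_zero _ h0
  rw [sg, nu, div_pow, mul_pow, pow_q_q hF]
  field_simp

theorem sg_fixed (l : Fˣ) (hl : (l : F) ^ 2 ^ n = l) : sg n l = l := by
  rw [sg, hl, mul_div_assoc, div_self l.ne_zero, mul_one]

theorem nu_eq_one_of_sg (l : Fˣ) (h : sg n l = 1) : nu n l = 1 := by
  rw [← sg_norm hF, h, one_pow, mul_one]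

theorem nu_fixed (l : Fˣ) : nu n l ^ 2 ^ n = nu n l := norm_fixed hF _

/-- Product of pairs. -/
def padd (p r : Pairs F (2 ^ n)) : Pairs F (2 ^ n) :=
  ⟨(p.1.1 + r.1.1, p.1.2 + r.1.2 + p.1.1 ^ 2 ^ n * r.1.1), by
    rw [add_pow_q hF, add_pow_q hF, add_pow_q hF, mul_pow, pow_q_q hF]
    linear_combination p.2 + r.2⟩

/-- Inverse of a pair. -/
def pinv (p : Pairs F (2 ^ n)) : Pairs F (2 ^ n) :=
  ⟨(p.1.1, p.1.2 ^ 2 ^ n), by rw [pow_q_q hF, add_comm]; exact p.2⟩

/-- The image of a pair under the torus. -/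
def tau (l : Fˣ) (p : Pairs F (2 ^ n)) : Pairs F (2 ^ n) :=
  ⟨(sg n l * p.1.1, nu n l * p.1.2), by
    rw [mul_pow, mul_pow, nu_fixed hF, mul_mul_mul_comm, sg_norm hF, ← mul_add, p.2]⟩

/-- A central pair. -/
def cp (z : F) (hz : z ^ 2 ^ n = z) : Pairs F (2 ^ n) :=
  ⟨(0, z), by rw [hz, add_self hF, zero_mul]⟩

/-- The origin. -/
def zp : Pairs F (2 ^ n) := cp hF 0 (zero_pow_q hF)

theorem snd_fixed_of_fst {p : Pairs F (2 ^ n)} (h : p.1.1 = 0) : p.1.2 ^ 2 ^ n = p.1.2 := by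
  have h2 := p.2
  rw [h, zero_mul] at h2
  exact (trace_zero_iff hF).1 h2

theorem eq_cp {p : Pairs F (2 ^ n)} (h : p.1.1 = 0) :
    p = cp hF p.1.2 (snd_fixed_of_fst hF h) := Subtype.ext (Prod.ext h rfl)

theorem snd_ne_zero {p : Pairs F (2 ^ n)} (h : p ≠ zp hF) : p.1.2 ≠ 0 := by
  intro e
  have h2 := p.2
  rw [e, zero_pow_q hF, add_zero, eq_comm, mul_eq_zero] at h2
  refine h (Subtype.ext (Prod.ext ?_ e))
  rcases h2 with h' | h'
  · exact h'
  · exact pow_eq_zero_iff (Nat.two_pow_pos n).ne' |>.1 h'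

variable {x : F} (hx : x + x ^ 2 ^ n = 1)

omit hF in
/-- The matrix of a torus element. -/
def dgMat (n : ℕ) (l : Fˣ) : Matrix (Fin 3) (Fin 3) F :=
  !![(l : F), 0, 0; 0, (l : F) ^ 2 ^ n / l, 0; 0, 0, ((l : F) ^ 2 ^ n)⁻¹]

theorem det_dg (l : Fˣ) : (tMat x * dgMat n l * tInv x).det = 1 := by
  rw [det_mul_comm, ← mul_assoc, tInv_mul_tMat hF, one_mul]
  simp [dgMat, det_fin_three]
  field_simp

include hx in
theorem dg_mem (l : Fˣ) :
    (⟨tMat x * dgMat n l * tInv x, det_dg hF l⟩ : Matrix.SpecialLinearGroup (Fin 3) F) ∈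
      Cfsg.SU 3 F (2 ^ n) := by
  have h0 : (l : F) ≠ 0 := l.ne_zero
  have h1 : (l : F) ^ 2 ^ n ≠ 0 := pow_ne_zero _ h0
  have hd : ∀ u v : Fin 3 → F, hyp (2 ^ n) (dgMat n l *ᵥ u) (dgMat n l *ᵥ v) = hyp (2 ^ n) u v := by
    intro u v
    simp [hyp, dgMat, mulVec, dotProduct, Fin.sum_univ_three, mul_pow, div_pow, inv_pow, pow_q_q hF]
    field_simp
  refine mem_SU_iff.2 fun u v => ?_
  show Cfsg.hermForm 3 F (2 ^ n) ((tMat x * dgMat n l * tInv x) *ᵥ u)
    ((tMat x * dgMat n l * tInv x) *ᵥ v) = _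
  rw [← mulVec_mulVec, ← mulVec_mulVec, ← mulVec_mulVec, ← mulVec_mulVec, herm_tMat hF hx, hd,
    ← herm_tMat hF hx, Model.tMat_tInv_mulVec hF, Model.tMat_tInv_mulVec hF]

/-- The torus element in `SU₃`. -/
def dg (l : Fˣ) : Cfsg.SU 3 F (2 ^ n) := ⟨⟨_, det_dg hF l⟩, dg_mem hF hx l⟩

theorem cmat_dg (l : Fˣ) : Model.cmat x (dg hF hx l) = dgMat n l := by
  show tInv x * (tMat x * dgMat n l * tInv x) * tMat x = _
  simp only [← mul_assoc, tInv_mul_tMat hF, one_mul]
  rw [mul_assoc, tInv_mul_tMat hF, mul_one]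

theorem eq_of_cmat {g k : Cfsg.SU 3 F (2 ^ n)} (e : Model.cmat x g = Model.cmat x k) : g = k := by
  apply Subtype.ext
  apply Subtype.ext
  have h := congrArg (fun M => tMat x * M * tInv x) e
  have hs : ∀ s : Cfsg.SU 3 F (2 ^ n), tMat x * (tInv x * s.1.1 * tMat x) * tInv x = s.1.1 := by
    intro s
    simp only [← mul_assoc, tMat_mul_tInv hF, one_mul]
    rw [mul_assoc, tMat_mul_tInv hF, mul_one]
  simpa only [Model.cmat, hs] using h

/-- The translations. -/
noncomputable def tl (p : Pairs F (2 ^ n)) : Grp hF hx := ⟨_, Model.tr hF hx p, rfl⟩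

/-- The torus. -/
noncomputable def dl (l : Fˣ) : Grp hF hx := ⟨_, dg hF hx l, rfl⟩

/-- The Weyl element. -/
noncomputable def wl : Grp hF hx := ⟨_, Model.w0 hF hx, rfl⟩

theorem tl_mul (p r : Pairs F (2 ^ n)) : tl hF hx p * tl hF hx r = tl hF hx (padd hF p r) := by
  refine Subtype.ext ?_
  show Model.pHom hF hx _ * Model.pHom hF hx _ = Model.pHom hF hx _
  rw [← map_mul]
  refine congrArg _ (eq_of_cmat (x := x) hF ?_)
  rw [Model.cmat_mul hF, Model.cmat_tr, Model.cmat_tr, Model.cmat_tr, mMat_mul hF]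
  rfl

theorem tl_zero : tl hF hx (zp hF) = 1 := by
  refine Subtype.ext ?_
  show Model.pHom hF hx _ = 1
  rw [← map_one (Model.pHom hF hx)]
  refine congrArg _ (eq_of_cmat (x := x) hF ?_)
  rw [Model.cmat_tr, Model.cmat_one hF]
  ext i j
  fin_cases i <;> fin_cases j <;> simp [zp, cp, mMat, zero_pow_q hF]

theorem tl_inv (p : Pairs F (2 ^ n)) : (tl hF hx p)⁻¹ = tl hF hx (pinv hF p) := by
  rw [inv_eq_iff_mul_eq_one, tl_mul, show padd hF p (pinv hF p) = zp hF from ?_, tl_zero]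
  refine Subtype.ext (Prod.ext (add_self hF _) ?_)
  show p.1.2 + p.1.2 ^ 2 ^ n + p.1.1 ^ 2 ^ n * p.1.1 = 0
  rw [p.2, mul_comm]
  exact add_self hF _

theorem dl_mul (l m : Fˣ) : dl hF hx l * dl hF hx m = dl hF hx (l * m) := by
  refine Subtype.ext ?_
  show Model.pHom hF hx _ * Model.pHom hF hx _ = Model.pHom hF hx _
  rw [← map_mul]
  refine congrArg _ (eq_of_cmat (x := x) hF ?_)
  rw [Model.cmat_mul hF, cmat_dg, cmat_dg, cmat_dg]
  ext i j
  fin_cases i <;> fin_cases j <;>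
    simp [dgMat, Matrix.mul_apply, Fin.sum_univ_three, mul_pow] <;> field_simp

theorem dl_one : dl hF hx 1 = 1 := by
  refine Subtype.ext ?_
  show Model.pHom hF hx _ = 1
  rw [← map_one (Model.pHom hF hx)]
  refine congrArg _ (eq_of_cmat (x := x) hF ?_)
  rw [cmat_dg, Model.cmat_one hF]
  ext i j
  fin_cases i <;> fin_cases j <;> simp [dgMat]

/-- The torus as a homomorphism. -/
noncomputable def dHom : Fˣ →* Grp hF hx where
  toFun := dl hF hx
  map_one' := dl_one hF hx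
  map_mul' l m := (dl_mul hF hx l m).symm

theorem dl_inv (l : Fˣ) : (dl hF hx l)⁻¹ = dl hF hx l⁻¹ := (map_inv (dHom hF hx) l).symm

theorem dl_tl (l : Fˣ) (p : Pairs F (2 ^ n)) :
    dl hF hx l * tl hF hx p = tl hF hx (tau hF l p) * dl hF hx l := by
  have h0 : (l : F) ≠ 0 := l.ne_zero
  have h1 : (l : F) ^ 2 ^ n ≠ 0 := pow_ne_zero _ h0
  refine Subtype.ext ?_
  show Model.pHom hF hx _ * Model.pHom hF hx _ = Model.pHom hF hx _ * Model.pHom hF hx _
  rw [← map_mul, ← map_mul]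
  refine congrArg _ (eq_of_cmat (x := x) hF ?_)
  rw [Model.cmat_mul hF, Model.cmat_mul hF, cmat_dg, Model.cmat_tr, Model.cmat_tr]
  ext i j
  fin_cases i <;> fin_cases j <;>
    simp [dgMat, mMat, tau, sg, nu, Matrix.mul_apply, Fin.sum_univ_three, mul_pow, div_pow,
      pow_q_q hF] <;> field_simp

theorem dl_conj (l : Fˣ) (p : Pairs F (2 ^ n)) :
    dl hF hx l * tl hF hx p * (dl hF hx l)⁻¹ = tl hF hx (tau hF l p) := by
  rw [dl_tl, mul_inv_cancel_right]

theorem wl_mul_self : wl hF hx * wl hF hx = 1 := by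
  refine Subtype.ext ?_
  show Model.pHom hF hx _ * Model.pHom hF hx _ = 1
  rw [← map_mul, ← map_one (Model.pHom hF hx)]
  refine congrArg _ (eq_of_cmat (x := x) hF ?_)
  rw [Model.cmat_mul hF, Model.cmat_w0, Model.cmat_one hF]
  ext i j
  fin_cases i <;> fin_cases j <;> simp [Model.jMat, Matrix.mul_apply, Fin.sum_univ_three]

theorem wl_inv : (wl hF hx)⁻¹ = wl hF hx := inv_eq_of_mul_eq_one_right (wl_mul_self hF hx)

/-- `w` as a word in two opposite central root groups. -/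
theorem wl_eq :
    wl hF hx = tl hF hx (cp hF 1 (one_pow _)) *
      (wl hF hx * tl hF hx (cp hF 1 (one_pow _)) * wl hF hx) * tl hF hx (cp hF 1 (one_pow _)) := by
  have h2 := two_eq_zero hF
  refine Subtype.ext ?_
  show Model.pHom hF hx _ =
    Model.pHom hF hx _ * (Model.pHom hF hx _ * Model.pHom hF hx _ * Model.pHom hF hx _) *
      Model.pHom hF hx _
  simp only [← map_mul]
  refine congrArg _ (eq_of_cmat (x := x) hF ?_)
  simp only [Model.cmat_mul hF, Model.cmat_tr, Model.cmat_w0]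
  ext i j
  fin_cases i <;> fin_cases j <;>
    simp [cp, mMat, Model.jMat, Matrix.mul_apply, Fin.sum_univ_three, zero_pow_q hF,
      add_self hF]

/-- The torus of the subfield in the group generated by two opposite central root groups. -/
theorem dl_fixed_eq (l : Fˣ) (hl : (l : F) ^ 2 ^ n = l) :
    dl hF hx l = tl hF hx (cp hF l hl) *
      (wl hF hx * tl hF hx (cp hF (l : F)⁻¹ (by rw [inv_pow, hl])) * wl hF hx) *
      tl hF hx (cp hF l hl) * wl hF hx := by
  have h2 := two_eq_zero hF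
  have h0 : (l : F) ≠ 0 := l.ne_zero
  refine Subtype.ext ?_
  show Model.pHom hF hx _ =
    Model.pHom hF hx _ * (Model.pHom hF hx _ * Model.pHom hF hx _ * Model.pHom hF hx _) *
      Model.pHom hF hx _ * Model.pHom hF hx _
  simp only [← map_mul]
  refine congrArg _ (eq_of_cmat (x := x) hF ?_)
  simp only [Model.cmat_mul hF, cmat_dg, Model.cmat_tr, Model.cmat_w0]
  ext i j
  fin_cases i <;> fin_cases j <;>
    simp [cp, dgMat, mMat, Model.jMat, Matrix.mul_apply, Fin.sum_univ_three, zero_pow_q hF, hl,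
      add_self hF]

/-! ## The action -/

theorem tl_none (p : Pairs F (2 ^ n)) : tl hF hx p • (none : Option (Pairs F (2 ^ n))) = none :=
  Model.act_tr_none hF hx p

theorem tl_some (p r : Pairs F (2 ^ n)) : tl hF hx p • some r = some (padd hF p r) :=
  Model.act_tr_some hF hx p r _ rfl

theorem tl_zp (p : Pairs F (2 ^ n)) : tl hF hx p • some (zp hF) = some p := by
  rw [tl_some]
  exact congrArg some (Subtype.ext (Prod.ext (by simp [padd, zp, cp]) (by simp [padd, zp, cp])))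

theorem dl_none (l : Fˣ) : dl hF hx l • (none : Option (Pairs F (2 ^ n))) = none :=
  Model.act_eq hF hx (c := (l : F)) (by
    rw [cmat_dg]
    ext i
    fin_cases i <;> simp [Model.cvec, dgMat, mulVec, dotProduct, Fin.sum_univ_three])

theorem dl_some (l : Fˣ) (p : Pairs F (2 ^ n)) : dl hF hx l • some p = some (tau hF l p) :=
  Model.act_eq hF hx (c := ((l : F) ^ 2 ^ n)⁻¹) (by
    have h0 : (l : F) ≠ 0 := l.ne_zero
    have h1 : (l : F) ^ 2 ^ n ≠ 0 := pow_ne_zero _ h0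
    rw [cmat_dg]
    ext i
    fin_cases i <;>
      simp [Model.cvec, dgMat, tau, sg, nu, mulVec, dotProduct, Fin.sum_univ_three] <;> field_simp)

theorem wl_none : wl hF hx • (none : Option (Pairs F (2 ^ n))) = some (zp hF) :=
  Model.act_w0_none hF hx _ rfl

theorem wl_zp : wl hF hx • some (zp hF) = none := Model.act_w0_zero hF hx _ rfl

theorem wl_some (p : Pairs F (2 ^ n)) (hp : p ≠ zp hF) :
    ∃ r : Pairs F (2 ^ n), wl hF hx • some p = some r ∧ r.1 = (p.1.1 / p.1.2, p.1.2⁻¹) := by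
  have hb := snd_ne_zero hF hp
  refine ⟨⟨(p.1.1 / p.1.2, p.1.2⁻¹), ?_⟩, Model.act_w0_some hF hx p _ hb rfl, rfl⟩
  have hd : p.1.2 ^ 2 ^ n ≠ 0 := pow_ne_zero _ hb
  show p.1.2⁻¹ + (p.1.2⁻¹) ^ 2 ^ n = p.1.1 / p.1.2 * (p.1.1 / p.1.2) ^ 2 ^ n
  rw [inv_pow, div_pow]
  field_simp
  linear_combination p.2

theorem exists_move (o : Option (Pairs F (2 ^ n))) :
    ∃ g : Grp hF hx, g • (none : Option (Pairs F (2 ^ n))) = o := by
  rcases o with _ | p
  · exact ⟨1, one_smul _ _⟩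
  · exact ⟨tl hF hx p * wl hF hx, by rw [mul_smul, wl_none, tl_zp]⟩

theorem eq_dl_of_fix {g : Grp hF hx} (h0 : g • (none : Option (Pairs F (2 ^ n))) = none)
    (h1 : g • some (zp hF) = some (zp hF)) : ∃ l, g = dl hF hx l := by
  obtain ⟨_, s, rfl⟩ := g
  obtain ⟨α, hα, e0⟩ : ∃ α : F, α ≠ 0 ∧ Model.cmat x s *ᵥ ![1, 0, 0] = α • ![1, 0, 0] := by
    obtain ⟨c, hc, he⟩ := (Model.exists_img hF hx s none).choose_spec
    change Model.cmat x s *ᵥ _ = c • Model.cvec (Model.act hF hx s none) at he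
    rw [show Model.act hF hx s none = none from h0] at he
    exact ⟨c, hc, he⟩
  obtain ⟨γ, hγ, e2⟩ : ∃ γ : F, γ ≠ 0 ∧ Model.cmat x s *ᵥ ![0, 0, 1] = γ • ![0, 0, 1] := by
    obtain ⟨c, hc, he⟩ := (Model.exists_img hF hx s (some (zp hF))).choose_spec
    change Model.cmat x s *ᵥ _ = c • Model.cvec (Model.act hF hx s (some (zp hF))) at he
    rw [show Model.act hF hx s (some (zp hF)) = some (zp hF) from h1] at he
    exact ⟨c, hc, he⟩
  set v := Model.cmat x s *ᵥ ![0, 1, 0] with hv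
  have hh := Model.hyp_cmat hF hx s
  have a1 := hh ![0, 1, 0] ![1, 0, 0]
  have a2 := hh ![0, 1, 0] ![0, 0, 1]
  have a3 := hh ![1, 0, 0] ![0, 0, 1]
  rw [← hv, e0] at a1
  rw [← hv, e2] at a2
  rw [e0, e2] at a3
  simp [hyp, zero_pow_q hF, hα] at a1
  simp [hyp, zero_pow_q hF, hγ] at a2
  simp [hyp, zero_pow_q hF] at a3
  have hM : Model.cmat x s = !![α, 0, 0; 0, v 1, 0; 0, 0, γ] := by
    ext i j
    fin_cases j
    · have := congrFun e0 i
      fin_cases i <;> simp_all [mulVec, dotProduct, Fin.sum_univ_three]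
    · have : Model.cmat x s i 1 = v i := by simp [hv, mulVec, dotProduct, Fin.sum_univ_three]
      fin_cases i <;> simp_all
    · have := congrFun e2 i
      fin_cases i <;> simp_all [mulVec, dotProduct, Fin.sum_univ_three]
  have hdet : α * v 1 * γ = 1 := by
    have hd : (Model.cmat x s).det = 1 := by
      rw [Model.cmat, det_mul_comm, ← mul_assoc, tMat_mul_tInv hF, one_mul]
      exact s.1.2
    rw [hM] at hd
    simpa [det_fin_three] using hd
  have hγe : γ = (α ^ 2 ^ n)⁻¹ := by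
    have := congrArg (fun y : F => y ^ 2 ^ n) a3
    simp only [mul_pow, pow_q_q hF, one_pow] at this
    exact eq_inv_of_mul_eq_one_right this
  refine ⟨Units.mk0 α hα, Subtype.ext (congrArg (Model.pHom hF hx) (eq_of_cmat (x := x) hF ?_))⟩
  rw [hM, cmat_dg]
  have hv1 : v 1 = α ^ 2 ^ n / α := by
    rw [eq_div_iff hα]
    rw [hγe] at hdet
    field_simp at hdet
    linear_combination hdet
  ext i j
  fin_cases i <;> fin_cases j <;> simp [dgMat, hv1, hγe]

/-- The stabiliser of `none`. -/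
theorem eq_of_fix {g : Grp hF hx} (h0 : g • (none : Option (Pairs F (2 ^ n))) = none) :
    ∃ p l, g = tl hF hx p * dl hF hx l := by
  rcases e : g • some (zp hF) with _ | p
  · rw [← h0, smul_left_cancel_iff] at e
    exact absurd e (by simp)
  obtain ⟨l, hl⟩ := eq_dl_of_fix hF hx (g := (tl hF hx p)⁻¹ * g)
    (by rw [mul_smul, h0, inv_smul_eq_iff, tl_none])
    (by rw [mul_smul, e, inv_smul_eq_iff, tl_zp])
  exact ⟨p, l, by rw [← hl, mul_inv_cancel_left]⟩

theorem borel_none (p : Pairs F (2 ^ n)) (l : Fˣ) :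
    (tl hF hx p * dl hF hx l) • (none : Option (Pairs F (2 ^ n))) = none := by
  rw [mul_smul, dl_none, tl_none]

theorem borel_zp (p : Pairs F (2 ^ n)) (l : Fˣ) :
    (tl hF hx p * dl hF hx l) • some (zp hF) = some p := by
  rw [mul_smul, dl_some, show tau hF l (zp hF) = zp hF from
    Subtype.ext (Prod.ext (mul_zero _) (mul_zero _)), tl_zp]

theorem dl_eq_iff (l m : Fˣ) : dl hF hx l = dl hF hx m ↔ sg n l = sg n m := by
  constructor
  · intro h
    obtain ⟨p, hp⟩ := exists_pair hF (1 : F)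
    have h' : tau hF l p = tau hF m p := Option.some.inj (by rw [← dl_some hF hx, h, dl_some])
    have := congrArg (fun r : Pairs F (2 ^ n) => r.1.1) h'
    simpa [tau, hp] using this
  · intro h
    refine Subtype.ext (Equiv.ext fun o => ?_)
    show dl hF hx l • o = dl hF hx m • o
    rcases o with _ | p
    · rw [dl_none, dl_none]
    · rw [dl_some, dl_some]
      refine congrArg some (Subtype.ext (Prod.ext ?_ ?_))
      · show sg n l * _ = sg n m * _
        rw [h]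
      · show nu n l * _ = nu n m * _
        rw [← sg_norm hF l, ← sg_norm hF m, h]

theorem dl_eq_one_iff (l : Fˣ) : dl hF hx l = 1 ↔ sg n l = 1 := by
  rw [← dl_one hF hx, dl_eq_iff, sg_one]

theorem borel_inj {p r : Pairs F (2 ^ n)} {l m : Fˣ}
    (h : tl hF hx p * dl hF hx l = tl hF hx r * dl hF hx m) : p = r ∧ sg n l = sg n m := by
  have hp : p = r := Option.some.inj (by rw [← borel_zp hF hx p l, h, borel_zp])
  exact ⟨hp, (dl_eq_iff hF hx l m).1 (mul_left_cancel (hp ▸ h))⟩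

theorem tl_injective {p r : Pairs F (2 ^ n)} (h : tl hF hx p = tl hF hx r) : p = r :=
  (borel_inj hF hx (l := 1) (m := 1) (by rw [h])).1

/-- The isomorphism with `PSU₃`. -/
noncomputable def equivPSU : Grp hF hx ≃* Cfsg.PSU 3 F (2 ^ n) := Model.rangeEquiv hF hx

theorem isSimple (hn : 2 ≤ n) : IsSimpleGroup (Grp hF hx) := by
  have h2 : 2 ^ 2 ≤ 2 ^ n := Nat.pow_le_pow_right (by norm_num) hn
  have := Unitary.isSimpleGroup_PSU (F := F) hF (n := 3) le_rfl (fun h => by omega)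
  exact (equivPSU hF hx).isSimpleGroup

theorem eq_top_of_mem {M : Subgroup (Grp hF hx)} (hn : 2 ≤ n) (hp : ∀ p, tl hF hx p ∈ M)
    (hw : wl hF hx ∈ M) : M = ⊤ := by
  refine (Subgroup.eq_top_iff' M).2 fun g => ?_
  obtain ⟨_, s, rfl⟩ := g
  have hs : s ∈ Subgroup.closure (Model.gens hF hx) := Model.closure_gens hF hx hn ▸ Subgroup.mem_top s
  exact (Subgroup.closure_le (M.comap (Model.pHom hF hx).rangeRestrict)).2 (by
    rintro y (⟨p, rfl⟩ | rfl)
    · exact hp p
    · exact hw) hs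

end Cfsg.Agent.Lib.Binary95.U3
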